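import Groth.Agent.EGA43.K131.FibNum

/-!
# Openness of codepth and rectified depth conditions on the fibres of a flat module

* `isOpen_codepth` : `{x | x ∈ W, codepth of the fibre stalk ≤ k}` is open.
* `isOpen_rect` : `{x | x ∈ W, rectified depth of the fibre stalk ≥ n}` is open.
-/

set_option autoImplicit false
universe u

open CategoryTheory CategoryTheory.Limits AlgebraicGeometry TopologicalSpace

namespace K131.FibMain

open Groth.Agent K131.FibOpenMod K131.FibNum Groth.Agent.CycB.RelDim

variable {X Y : Scheme.{u}} (f : X ⟶ Y) [LocallyOfFinitePresentation f]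

/-- The closure of `x` in its fibre has dimension the residual transcendence degree. -/
theorem exists_rtd (x : X) : ∃ n : ℕ, rtd f x = n ∧
    topologicalKrullDim ↥(closure ({f.asFiber x} : Set ↥(f.fiber (f.base x)))) = n := by
  obtain ⟨n, hn, hn'⟩ := exists_dim_closure_fiber f (f x) (f.asFiber x)
  rw [Scheme.Hom.fiberι_asFiber] at hn
  exact ⟨n, hn, hn'⟩

theorem isOpen_codepth (F : X.Modules) (hF : CohB1.IsFP F) (W : X.Opens)
    (hflat : ∀ x ∈ W, FlatMod.IsFlatOverAt f F x) (k : ℕ) :
    IsOpen {x : X | x ∈ W ∧ Module.supportDim ((f.fiber (f.base x)).presheaf.stalk (f.asFiber x)) (((Scheme.Modules.pullback (f.fiberι (f.base x))).obj F).presheaf.stalk (f.asFiber x)) ≤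
      ((LocCoh.depth ((f.fiber (f.base x)).presheaf.stalk (f.asFiber x)) (((Scheme.Modules.pullback (f.fiberι (f.base x))).obj F).presheaf.stalk (f.asFiber x)) : ℕ∞) : WithBot ℕ∞) + k} := by
  convert isOpen_of_aff f F (inv_codepthLE k) (affOpen_codepth k) hF W hflat using 1
  ext x
  refine and_congr_right fun _ => ?_
  obtain ⟨n, hn, -⟩ := exists_rtd f x
  exact ⟨fun h _ _ => h, fun h => h n hn⟩

theorem isOpen_rect (F : X.Modules) (hF : CohB1.IsFP F) (W : X.Opens)
    (hflat : ∀ x ∈ W, FlatMod.IsFlatOverAt f F x) (k : ℕ) :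
    IsOpen {x : X | x ∈ W ∧ (k : WithBot ℕ∞) ≤
      ((LocCoh.depth ((f.fiber (f.base x)).presheaf.stalk (f.asFiber x)) (((Scheme.Modules.pullback (f.fiberι (f.base x))).obj F).presheaf.stalk (f.asFiber x)) : ℕ∞) : WithBot ℕ∞) +
        topologicalKrullDim ↥(closure ({f.asFiber x} : Set ↥(f.fiber (f.base x))))} := by
  convert isOpen_of_aff f F (inv_rectGE k) (affOpen_rect k) hF W hflat using 1
  ext x
  refine and_congr_right fun _ => ?_
  obtain ⟨n, hn, hn'⟩ := exists_rtd f x
  constructor
  · intro h m hm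
    have : m = n := by
      rw [hn] at hm
      exact_mod_cast hm.symm
    subst this
    rw [hn'] at h
    exact h
  · intro h
    rw [hn']
    exact h n hn

end K131.FibMain
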