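import Groth.Agent.EGA43.K131.ArtSch
import Groth.Agent.EGA43.K120.FlatPt
import Groth.Agent.Ega43.FlatAdic
import Groth.Agent.FormalA.PullbackQC

/-!
# Pointwise descent of flatness over a Noetherian local ring along a family which is topologically injective
-/

set_option autoImplicit false
set_option linter.style.haveILetI false
universe u
open CategoryTheory CategoryTheory.Limits AlgebraicGeometry TensorProduct IsLocalRing

namespace K131.ArtAdic

open Groth.Agent Groth.Agent.VarietyA.StalkBC K120.FlatPt K131.ArtSch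

/-- Base change of the base: points of `X ×_Y T'` above the point `z` of `X ×_Y T`. -/
theorem flatPt_base {X Y T T' : Scheme.{u}} {f : X ⟶ Y} {F : X.Modules} {t : T ⟶ Y} {v : T' ⟶ T}
    (z : ↥(pullback f t)) (s' : T') (h : FlatPt f F (v ≫ t) (pullback.fst f t z) s') :
    FlatPt (pullback.snd f t) ((Scheme.Modules.pullback (pullback.fst f t)).obj F) v z s' := by
  have H : IsPullback (pullback.fst (pullback.snd f t) v ≫ pullback.fst f t) (pullback.snd (pullback.snd f t) v)
      f (v ≫ t) :=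
    ((IsPullback.of_hasPullback (pullback.snd f t) v).flip.paste_vert
      (IsPullback.of_hasPullback f t).flip).flip
  intro z' hz hz'
  have h1 := (flatPt_iff_of_isPullback H _ _).mp h z' (by rw [Scheme.Hom.comp_apply, hz]) hz'
  exact Models2.FlatIso.isFlatOverAt_of_iso _
    ((Scheme.Modules.pullbackComp (pullback.fst (pullback.snd f t) v) (pullback.fst f t)).app F).symm z' h1

theorem comap_stalkRingHom {R : Type u} [CommRing R] {X : Scheme.{u}} (f : X ⟶ Spec (CommRingCat.of R)) (x : X) :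
    (maximalIdeal (X.presheaf.stalk x)).comap (stalkRingHom f x) = (f x).asIdeal := by
  have h1 : Spec.map (CommRingCat.ofHom (stalkRingHom f x)) (closedPoint (X.presheaf.stalk x)) = f x := by
    rw [← fromSpecStalk_comp, Scheme.Hom.comp_apply, Scheme.fromSpecStalk_closedPoint]
  exact congrArg PrimeSpectrum.asIdeal h1

theorem adic {R : Type u} [CommRing R] [IsNoetherianRing R] [IsLocalRing R] {X : Scheme.{u}}
    (f : X ⟶ Spec (CommRingCat.of R)) [LocallyOfFiniteType f] (F : X.Modules) (hF : Coh.IsCoh F) (x : X)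
    (hx : f x = closedPoint R) {ι : Type u} (A : ι → Type u) [∀ i, CommRing (A i)] [∀ i, IsLocalRing (A i)]
    [∀ i, Algebra R (A i)] [∀ i, IsLocalHom (algebraMap R (A i))]
    (htop : ∀ N : ℕ, ∃ s : Finset (ι × ℕ),
      ⨅ p ∈ s, Ideal.comap (algebraMap R (A p.1)) (maximalIdeal (A p.1) ^ p.2) ≤ maximalIdeal R ^ N)
    (hflat : ∀ i, FlatPt f F (Spec.map (CommRingCat.ofHom (algebraMap R (A i)))) x (closedPoint (A i))) :
    FlatMod.IsFlatOverAt f F x := by
  haveI : IsLocallyNoetherian X := LocallyOfFiniteType.isLocallyNoetherian f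
  letI i1 : Algebra R (X.presheaf.stalk x) := (stalkRingHom f x).toAlgebra
  letI i2 : Module R (F.presheaf.stalk x) := Module.compHom _ (stalkRingHom f x)
  haveI : IsScalarTower R (X.presheaf.stalk x) (F.presheaf.stalk x) := ⟨fun a b m => mul_smul (stalkRingHom f x a) b m⟩
  haveI : Module.Finite (X.presheaf.stalk x) (F.presheaf.stalk x) := CycB.CohStalk.finite_stalk F hF x
  have hcomap : (maximalIdeal (X.presheaf.stalk x)).comap (algebraMap R (X.presheaf.stalk x)) = maximalIdeal R := by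
    have h1 := comap_stalkRingHom f x
    rw [hx] at h1
    exact h1
  haveI : IsLocalHom (algebraMap R (X.presheaf.stalk x)) :=
    ((IsLocalRing.local_hom_TFAE (algebraMap R (X.presheaf.stalk x))).out 0 4).mpr hcomap
  rw [isFlatOverAt_iff]
  refine Ega43.FlatAdic.flat_of_forall_exists_le_pow (S := X.presheaf.stalk x) ?_
  intro N
  obtain ⟨s, hs⟩ := htop N
  let J : Ideal R := ⨅ p ∈ s, Ideal.comap (algebraMap R (A p.1)) (maximalIdeal (A p.1) ^ p.2)
  refine ⟨J, hs, ?_⟩
  by_cases hJ : J = ⊤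
  · haveI : Subsingleton (R ⧸ J) := Ideal.Quotient.subsingleton_iff.mpr hJ
    haveI : Subsingleton ((R ⧸ J) ⊗[R] F.presheaf.stalk x) := Module.subsingleton (R ⧸ J) _
    infer_instance
  haveI : Nontrivial (R ⧸ J) := Ideal.Quotient.nontrivial_iff.mpr hJ
  haveI : IsLocalRing (R ⧸ J) := IsLocalRing.of_surjective' (Ideal.Quotient.mk J) Ideal.Quotient.mk_surjective
  have hpow : ∃ k : ℕ, maximalIdeal R ^ k ≤ J := by
    refine ⟨s.sup Prod.snd, le_iInf₂ fun p hp => ?_⟩
    rw [← Ideal.map_le_iff_le_comap, Ideal.map_pow]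
    exact (Ideal.pow_right_mono (IsLocalRing.map_maximalIdeal_le _) _).trans
      (Ideal.pow_le_pow_right (Finset.le_sup (f := Prod.snd) hp))
  haveI : IsArtinianRing (R ⧸ J) := by
    rw [isArtinianRing_iff_isNilpotent_maximalIdeal]
    obtain ⟨k, hk⟩ := hpow
    refine ⟨k, ?_⟩
    have h1 : maximalIdeal (R ⧸ J) = (maximalIdeal R).map (Ideal.Quotient.mk J) :=
      (IsLocalRing.map_maximalIdeal_of_surjective _ Ideal.Quotient.mk_surjective).symm
    rw [h1, ← Ideal.map_pow, Submodule.zero_eq_bot, Ideal.map_eq_bot_iff_le_ker, Ideal.mk_ker]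
    exact hk
  -- the family of quotients
  let κ : Type u := {p : ι × ℕ // p ∈ s ∧ p.2 ≠ 0}
  let B : κ → Type u := fun p => A p.1.1 ⧸ (maximalIdeal (A p.1.1) ^ p.1.2)
  letI b1 : ∀ p, CommRing (B p) := fun p => Ideal.Quotient.commRing _
  have hne : ∀ p : κ, maximalIdeal (A p.1.1) ^ p.1.2 ≠ ⊤ := fun p =>
    ne_top_of_le_ne_top (IsLocalRing.maximalIdeal.isMaximal _).ne_top (Ideal.pow_le_self p.2.2)
  haveI b2 : ∀ p, IsLocalRing (B p) := fun p =>
    haveI : Nontrivial (B p) := Ideal.Quotient.nontrivial_iff.mpr (hne p)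
    IsLocalRing.of_surjective' (Ideal.Quotient.mk _) Ideal.Quotient.mk_surjective
  have hle : ∀ p : κ, J ≤ Ideal.comap (algebraMap R (A p.1.1)) (maximalIdeal (A p.1.1) ^ p.1.2) := fun p =>
    iInf₂_le p.1 p.2.1
  letI b3 : ∀ p, Algebra (R ⧸ J) (B p) := fun p => (Ideal.quotientMap _ (algebraMap R (A p.1.1)) (hle p)).toAlgebra
  have hinj : ∀ a : R ⧸ J, (∀ p, algebraMap (R ⧸ J) (B p) a = 0) → a = 0 := by
    intro a ha
    obtain ⟨r, rfl⟩ := Ideal.Quotient.mk_surjective a
    rw [Ideal.Quotient.eq_zero_iff_mem]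
    change r ∈ ⨅ p ∈ s, Ideal.comap (algebraMap R (A p.1)) (maximalIdeal (A p.1) ^ p.2)
    rw [Ideal.mem_iInf]
    intro p
    rw [Ideal.mem_iInf]
    intro hp
    by_cases h0 : p.2 = 0
    · rw [h0, pow_zero, Ideal.one_eq_top, Ideal.comap_top]
      trivial
    · have h1 := ha ⟨p, hp, h0⟩
      change Ideal.Quotient.mk (maximalIdeal (A p.1) ^ p.2) (algebraMap R (A p.1) r) = 0 at h1
      exact Ideal.mem_comap.mpr (Ideal.Quotient.eq_zero_iff_mem.mp h1)
  let mk : CommRingCat.of R ⟶ CommRingCat.of (R ⧸ J) := CommRingCat.ofHom (algebraMap R (R ⧸ J))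
  refine flat_quotient f F Ideal.Quotient.mk_surjective x rfl ?_ ?_
  · rw [hcomap]
    exact IsLocalRing.eq_maximalIdeal (Ideal.comap_isMaximal_of_surjective _ Ideal.Quotient.mk_surjective)
  · intro z hz
    haveI : IsLocallyNoetherian (pullback f (Spec.map mk)) :=
      LocallyOfFiniteType.isLocallyNoetherian (pullback.snd f (Spec.map mk))
    refine isFlatOverAt_of_family (pullback.snd f (Spec.map mk)) ((Scheme.Modules.pullback (pullback.fst f (Spec.map mk))).obj F)
      (FormalA.PullbackQC.isCoh_pullback _ _ hF) z B hinj ?_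
    intro p
    have h2 : FlatPt f F (Spec.map (CommRingCat.ofHom (algebraMap (R ⧸ J) (B p))) ≫ Spec.map mk) x (closedPoint (B p)) := by
      refine flatPt_comp (t := Spec.map (CommRingCat.ofHom (algebraMap R (A p.1.1))))
        (r := Spec.map (CommRingCat.ofHom (algebraMap (A p.1.1) (B p)))) ?_ ?_
      · rw [← Spec.map_comp, ← Spec.map_comp]
        rfl
      · have h4 : (Ideal.comap (algebraMap (A p.1.1) (B p)) (maximalIdeal (B p))).IsMaximal :=
          Ideal.comap_isMaximal_of_surjective _ Ideal.Quotient.mk_surjective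
        have h3 : (Spec.map (CommRingCat.ofHom (algebraMap (A p.1.1) (B p)))) (closedPoint (B p)) =
            closedPoint (A p.1.1) :=
          PrimeSpectrum.ext (IsLocalRing.eq_maximalIdeal h4)
        rw [h3]
        exact hflat p.1.1
    rw [← hz] at h2
    exact fun z' e1 e2 => flatPt_base z _ h2 z' e1 e2

theorem isFlatOverAt_of_flatPt {X Y : Scheme.{u}} {f : X ⟶ Y} {F : X.Modules} {x : X}
    (h : FlatPt f F (𝟙 Y) x (f x)) : FlatMod.IsFlatOverAt f F x := by
  have H : IsPullback (𝟙 X) f f (𝟙 Y) := IsPullback.of_horiz_isIso ⟨by simp⟩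
  have h1 := (flatPt_iff_of_isPullback H x (f x)).mp h x rfl rfl
  exact Models2.FlatIso.isFlatOverAt_of_iso f ((Scheme.Modules.pullbackId X).app F) x h1

/-- the localization of the base at the point -/
theorem isFlatOverAt_of_fromSpecStalk {X Y : Scheme.{u}} {f : X ⟶ Y} {F : X.Modules} {x : X}
    (h : FlatPt f F (Y.fromSpecStalk (f x)) x (closedPoint (Y.presheaf.stalk (f x)))) :
    FlatMod.IsFlatOverAt f F x := by
  apply isFlatOverAt_of_flatPt
  have := flat_fromSpecStalk Y (f x)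
  have h1 := flatPt_of_comp (r := Y.fromSpecStalk (f x)) (t := 𝟙 Y) (Category.comp_id _) h
  rwa [Scheme.fromSpecStalk_closedPoint] at h1

/-- the same with a bundled base ring and unbundled ring maps -/
theorem adic_of {R : CommRingCat.{u}} [IsNoetherianRing R] [IsLocalRing R] {X : Scheme.{u}}
    (f : X ⟶ Spec R) [LocallyOfFiniteType f] (F : X.Modules) (hF : Coh.IsCoh F) (x : X)
    (hx : f x = closedPoint R) {ι : Type u} (A : ι → Type u) [∀ i, CommRing (A i)] [∀ i, IsLocalRing (A i)]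
    (φ : ∀ i, (R : Type u) →+* A i) (hφ : ∀ i, IsLocalHom (φ i))
    (htop : ∀ N : ℕ, ∃ s : Finset (ι × ℕ),
      ⨅ p ∈ s, Ideal.comap (φ p.1) (maximalIdeal (A p.1) ^ p.2) ≤ maximalIdeal R ^ N)
    (hflat : ∀ i, FlatPt f F (Spec.map (CommRingCat.ofHom (φ i))) x (closedPoint (A i))) :
    FlatMod.IsFlatOverAt f F x := by
  letI i1 : ∀ i, Algebra R (A i) := fun i => (φ i).toAlgebra
  haveI i2 : ∀ i, IsLocalHom (algebraMap R (A i)) := hφ
  exact adic (R := R) f F hF x hx A htop hflat

theorem adic' {X Y : Scheme.{u}} [IsLocallyNoetherian Y] (f : X ⟶ Y) [LocallyOfFiniteType f] (F : X.Modules)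
    (hF : Coh.IsCoh F) (x : X) {ι : Type u} (A : ι → Type u) [∀ i, CommRing (A i)] [∀ i, IsLocalRing (A i)]
    (φ : ∀ i, (Y.presheaf.stalk (f x) : Type u) →+* A i) (hφ : ∀ i, IsLocalHom (φ i))
    (htop : ∀ N : ℕ, ∃ s : Finset (ι × ℕ),
      ⨅ p ∈ s, Ideal.comap (φ p.1) (maximalIdeal (A p.1) ^ p.2) ≤ maximalIdeal ↑(Y.presheaf.stalk (f x)) ^ N)
    (hflat : ∀ i, FlatPt f F (Spec.map (CommRingCat.ofHom (φ i)) ≫ Y.fromSpecStalk (f x)) x (closedPoint (A i))) :
    FlatMod.IsFlatOverAt f F x := by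
  apply isFlatOverAt_of_fromSpecStalk
  intro z hz hz'
  haveI : IsLocallyNoetherian (pullback f (Y.fromSpecStalk (f x))) :=
    LocallyOfFiniteType.isLocallyNoetherian (pullback.snd f (Y.fromSpecStalk (f x)))
  have h1 : Coh.IsCoh ((Scheme.Modules.pullback (pullback.fst f (Y.fromSpecStalk (f x)))).obj F) :=
    FormalA.PullbackQC.isCoh_pullback _ _ hF
  have h2 : ∀ i, FlatPt (pullback.snd f (Y.fromSpecStalk (f x)))
      ((Scheme.Modules.pullback (pullback.fst f (Y.fromSpecStalk (f x)))).obj F)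
      (Spec.map (CommRingCat.ofHom (φ i))) z (closedPoint (A i)) := by
    intro i
    refine flatPt_base z _ ?_
    rw [hz]
    exact hflat i
  exact adic_of (R := Y.presheaf.stalk (f x)) (pullback.snd f (Y.fromSpecStalk (f x))) _ h1 z hz' A φ hφ htop h2

end K131.ArtAdic
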