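import Mathlib.RingTheory.LocalRing.ResidueField.Basic
import Mathlib.LinearAlgebra.Basis.VectorSpace
import Mathlib.LinearAlgebra.TensorProduct.Basis
import Mathlib.RingTheory.Flat.Basic
import Mathlib.RingTheory.Artinian.Ring
import Groth.Agent.Ega43.NilpotentFlat

/-!
# Flatness over a local ring with nilpotent maximal ideal, tested on the socle

* `contr`: for `T` killed by the maximal ideal and `φ : M → A ⧸ m` the contraction `M ⊗ T → T`.
* `exists_dual`: elements of `M ⊗ T` in terms of elements of `M` independent modulo `m`.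
* `soc A`: the annihilator of the maximal ideal.
* `flat_of_soc`: if `m` is nilpotent and `M ⊗ soc A → M` is injective then `M` is flat over `A`.
-/

set_option autoImplicit false
universe u v w
open TensorProduct IsLocalRing

namespace K131.SocFlat

variable {A : Type u} [CommRing A] [IsLocalRing A]

section contr

variable {M : Type v} [AddCommGroup M] [Module A M] {T : Type w} [AddCommGroup T] [Module A T]

/-- `A ⧸ m` acts on a module killed by `m` -/
noncomputable def act (hT : ∀ a ∈ maximalIdeal A, ∀ t : T, a • t = 0) :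
    (A ⧸ maximalIdeal A) →ₗ[A] T →ₗ[A] T :=
  Submodule.liftQ (maximalIdeal A) (LinearMap.lsmul A T) fun a ha => by
    ext t
    exact hT a ha t

theorem act_mk (hT : ∀ a ∈ maximalIdeal A, ∀ t : T, a • t = 0) (a : A) (t : T) :
    act hT (Ideal.Quotient.mk _ a) t = a • t := rfl

/-- the contraction `M ⊗ T → T` along `φ : M → A ⧸ m` -/
noncomputable def contr (hT : ∀ a ∈ maximalIdeal A, ∀ t : T, a • t = 0)
    (φ : M →ₗ[A] (A ⧸ maximalIdeal A)) : M ⊗[A] T →ₗ[A] T :=
  TensorProduct.lift ((act hT).comp φ)

theorem contr_tmul (hT : ∀ a ∈ maximalIdeal A, ∀ t : T, a • t = 0)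
    (φ : M →ₗ[A] (A ⧸ maximalIdeal A)) (x : M) (t : T) :
    contr hT φ (x ⊗ₜ t) = act hT (φ x) t := rfl

theorem contr_one (hT : ∀ a ∈ maximalIdeal A, ∀ t : T, a • t = 0)
    (φ : M →ₗ[A] (A ⧸ maximalIdeal A)) {x : M} (hx : φ x = 1) (t : T) :
    contr hT φ (x ⊗ₜ t) = t := by
  rw [contr_tmul, hx]
  exact (act_mk hT 1 t).trans (one_smul _ _)

theorem contr_zero (hT : ∀ a ∈ maximalIdeal A, ∀ t : T, a • t = 0)
    (φ : M →ₗ[A] (A ⧸ maximalIdeal A)) {x : M} (hx : φ x = 0) (t : T) :
    contr hT φ (x ⊗ₜ t) = 0 := by
  rw [contr_tmul, hx, map_zero, LinearMap.zero_apply]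

/-- An element of `M ⊗ T` (with `T` killed by `m`) is a finite sum `∑ eᵢ ⊗ tᵢ` where the `eᵢ` have a dual
family `φᵢ : M → A ⧸ m`. -/
theorem exists_dual (M : Type v) [AddCommGroup M] [Module A M] :
    ∃ (ι : Type v) (e : ι → M) (φ : ι → M →ₗ[A] (A ⧸ maximalIdeal A)),
      (∀ i, φ i (e i) = 1) ∧ (∀ i j, i ≠ j → φ i (e j) = 0) ∧
      Submodule.span A (Set.range e) ⊔ maximalIdeal A • (⊤ : Submodule A M) = ⊤ := by
  letI := Ideal.Quotient.field (maximalIdeal A)
  let Q := M ⧸ (maximalIdeal A • (⊤ : Submodule A M))
  let b := Module.Basis.ofVectorSpace (A ⧸ maximalIdeal A) Q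
  have hs : ∀ i, ∃ x : M, Submodule.mkQ (maximalIdeal A • (⊤ : Submodule A M)) x = b i := fun i =>
    Submodule.mkQ_surjective _ _
  choose e he using hs
  refine ⟨_, e, fun i => ((b.coord i).restrictScalars A).comp (Submodule.mkQ _), ?_, ?_, ?_⟩
  · intro i
    change b.coord i (Submodule.mkQ _ (e i)) = 1
    rw [he, Module.Basis.coord_apply, Module.Basis.repr_self, Finsupp.single_eq_same]
  · intro i j hij
    change b.coord i (Submodule.mkQ _ (e j)) = 0
    rw [he, Module.Basis.coord_apply, Module.Basis.repr_self, Finsupp.single_eq_of_ne hij]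
  · have h1 : (Submodule.span A (Set.range e)).map (Submodule.mkQ (maximalIdeal A • (⊤ : Submodule A M))) =
        ⊤ := by
      rw [Submodule.map_span, ← Set.range_comp]
      have h2 : (Submodule.mkQ (maximalIdeal A • (⊤ : Submodule A M))) ∘ e = b := funext he
      rw [h2, eq_top_iff]
      intro x _
      have h3 : x ∈ Submodule.span (A ⧸ maximalIdeal A) (Set.range b) := by
        rw [b.span_eq]
        trivial
      have h4 := Submodule.span_le_restrictScalars A (A ⧸ maximalIdeal A) (Set.range b)
      rw [← Submodule.restrictScalars_mem A] at h3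
      rwa [Submodule.restrictScalars_span A (A ⧸ maximalIdeal A) Ideal.Quotient.mk_surjective] at h3
    rw [eq_top_iff]
    intro x _
    have h5 : Submodule.mkQ (maximalIdeal A • (⊤ : Submodule A M)) x ∈
        (Submodule.span A (Set.range e)).map (Submodule.mkQ (maximalIdeal A • (⊤ : Submodule A M))) := by
      rw [h1]
      trivial
    obtain ⟨y, hy, hxy⟩ := h5
    rw [← sub_add_cancel x y, add_comm]
    refine Submodule.add_mem_sup hy ?_
    rw [← Submodule.Quotient.mk_eq_zero]
    change Submodule.mkQ _ (x - y) = 0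
    rw [map_sub, hxy, sub_self]

theorem exists_sum_dual (hT : ∀ a ∈ maximalIdeal A, ∀ t : T, a • t = 0) {ι : Type v} {e : ι → M}
    (he : Submodule.span A (Set.range e) ⊔ maximalIdeal A • (⊤ : Submodule A M) = ⊤) (x : M ⊗[A] T) :
    ∃ t : ι →₀ T, x = t.sum fun i a => e i ⊗ₜ[A] a := by
  classical
  let Ψ : (ι →₀ T) →ₗ[A] M ⊗[A] T := Finsupp.lsum A fun i => TensorProduct.mk A M T (e i)
  have hΨ : ∀ t, Ψ t = t.sum fun i a => e i ⊗ₜ[A] a := fun t => rfl
  suffices h : LinearMap.range Ψ = ⊤ by
    obtain ⟨t, ht⟩ := LinearMap.range_eq_top.mp h x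
    exact ⟨t, by rw [← hΨ, ht]⟩
  rw [eq_top_iff, ← TensorProduct.span_tmul_eq_top, Submodule.span_le]
  rintro _ ⟨m, t, rfl⟩
  let S : Submodule A M :=
    { carrier := {m | ∀ t : T, m ⊗ₜ[A] t ∈ LinearMap.range Ψ}
      add_mem' := fun {a b} ha hb t => by
        rw [TensorProduct.add_tmul]
        exact Submodule.add_mem _ (ha t) (hb t)
      zero_mem' := fun t => by
        rw [TensorProduct.zero_tmul]
        exact Submodule.zero_mem _
      smul_mem' := fun c a ha t => by
        rw [← TensorProduct.smul_tmul']
        exact Submodule.smul_mem _ _ (ha t) }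
  have hS : S = ⊤ := by
    rw [eq_top_iff, ← he, sup_le_iff]
    constructor
    · rw [Submodule.span_le]
      rintro _ ⟨i, rfl⟩ t
      refine ⟨Finsupp.single i t, ?_⟩
      rw [hΨ, Finsupp.sum_single_index (by rw [TensorProduct.tmul_zero])]
    · rw [Submodule.smul_le]
      intro a ha m _ t
      rw [TensorProduct.smul_tmul, hT a ha t, TensorProduct.tmul_zero]
      exact Submodule.zero_mem _
  have hm : m ∈ S := by
    rw [hS]
    trivial
  exact hm t

theorem contr_sum (hT : ∀ a ∈ maximalIdeal A, ∀ t : T, a • t = 0) {ι : Type v} {e : ι → M}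
    {φ : ι → M →ₗ[A] (A ⧸ maximalIdeal A)} (h1 : ∀ i, φ i (e i) = 1)
    (h0 : ∀ i j, i ≠ j → φ i (e j) = 0) (t : ι →₀ T) (i : ι) :
    contr hT (φ i) (t.sum fun i a => e i ⊗ₜ[A] a) = t i := by
  classical
  rw [Finsupp.sum, map_sum, Finset.sum_eq_single i]
  · exact contr_one hT (φ i) (h1 i) _
  · intro j _ hj
    exact contr_zero hT (φ i) (h0 i j hj.symm) _
  · intro hi
    rw [Finsupp.notMem_support_iff] at hi
    rw [hi, TensorProduct.tmul_zero, map_zero]

end contr

section soc

variable (A)

/-- the annihilator of the maximal ideal -/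
def soc : Ideal A where
  carrier := {v | ∀ a ∈ maximalIdeal A, a * v = 0}
  add_mem' := fun {x y} hx hy a ha => by rw [mul_add, hx a ha, hy a ha, add_zero]
  zero_mem' := fun a _ => mul_zero a
  smul_mem' := fun c x hx a ha => by
    rw [smul_eq_mul, mul_left_comm, hx a ha, mul_zero]

variable {A}

theorem mem_soc {v : A} : v ∈ soc A ↔ ∀ a ∈ maximalIdeal A, a * v = 0 := Iff.rfl

theorem soc_smul (a : A) (ha : a ∈ maximalIdeal A) (v : soc A) : a • v = 0 :=
  Subtype.ext (v.2 a ha)

/-- `M ⊗ soc A → M` -/
noncomputable def mulMap (M : Type v) [AddCommGroup M] [Module A M] : M ⊗[A] soc A →ₗ[A] M :=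
  TensorProduct.lift ((LinearMap.lsmul A M).flip.compl₂ (soc A).subtype)

theorem mulMap_tmul {M : Type v} [AddCommGroup M] [Module A M] (x : M) (v : soc A) :
    mulMap M (x ⊗ₜ v) = (v : A) • x := rfl

/-- If the maximal ideal of `A` is nilpotent and `M ⊗ soc A → M` is injective, then `M` is free over `A`. -/
theorem free_of_soc (hA : IsNilpotent (maximalIdeal A)) (M : Type v) [AddCommGroup M] [Module A M]
    (h : ∀ w : M ⊗[A] soc A, mulMap M w = 0 → w = 0) : Module.Free A M := by
  classical
  obtain ⟨ι, e, φ, h1, h0, hsp⟩ := exists_dual (A := A) M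
  have hspan : Submodule.span A (Set.range e) = ⊤ :=
    Groth.Agent.Ega43.NilpotentFlat.eq_top_of_sup_smul_eq_top _ hA _ hsp
  have hli : LinearIndependent A e := by
    rw [linearIndependent_iff]
    intro a ha
    obtain ⟨n, hn⟩ := hA
    have key : ∀ j : ℕ, j ≤ n → ∀ c ∈ maximalIdeal A ^ (n - j), c • a = 0 := by
      intro j
      induction j with
      | zero =>
        intro _ c hc
        rw [Nat.sub_zero, hn, Submodule.zero_eq_bot, Submodule.mem_bot] at hc
        rw [hc, zero_smul]
      | succ j ih =>
        intro hj c hc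
        have hv : ∀ i, c * a i ∈ soc A := by
          intro i d hd
          have h2 : (d * c) • a = 0 := by
            apply ih (by omega)
            have h3 : n - j = (n - (j + 1)) + 1 := by omega
            rw [h3, pow_succ', ]
            exact Ideal.mul_mem_mul hd hc
          have h4 := DFunLike.congr_fun h2 i
          rw [← mul_assoc]
          exact h4
        let v : ι →₀ soc A := Finsupp.onFinset a.support (fun i => ⟨c * a i, hv i⟩) (by
          intro i hi
          rw [Finsupp.mem_support_iff]
          intro h5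
          apply hi
          apply Subtype.ext
          change c * a i = 0
          rw [h5, mul_zero])
        have hw : mulMap M (v.sum fun i x => e i ⊗ₜ[A] x) = 0 := by
          rw [Finsupp.sum, map_sum]
          simp only [mulMap_tmul]
          have h6 : ∑ i ∈ v.support, (v i : A) • e i = ∑ i ∈ a.support, (v i : A) • e i := by
            apply Finset.sum_subset
            · intro i hi
              rw [Finsupp.mem_support_iff] at hi ⊢
              intro h5
              apply hi
              apply Subtype.ext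
              change c * a i = 0
              rw [h5, mul_zero]
            · intro i _ hi
              rw [Finsupp.notMem_support_iff] at hi
              rw [hi]
              exact zero_smul _ _
          rw [h6]
          have h7 : ∑ i ∈ a.support, (v i : A) • e i = c • ∑ i ∈ a.support, a i • e i := by
            rw [Finset.smul_sum]
            refine Finset.sum_congr rfl fun i _ => ?_
            change (c * a i) • e i = _
            rw [mul_smul]
          rw [h7]
          rw [Finsupp.linearCombination_apply] at ha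
          change c • a.sum (fun i x => x • e i) = 0
          rw [ha, smul_zero]
        have hz := h _ hw
        ext i
        have h8 := contr_sum (T := soc A) soc_smul h1 h0 v i
        rw [hz, map_zero] at h8
        exact (congrArg Subtype.val h8).symm
    have := key n le_rfl 1 (by rw [Nat.sub_self, pow_zero, Ideal.one_eq_top]; trivial)
    rwa [one_smul] at this
  exact Module.Free.of_basis (Module.Basis.mk hli hspan.ge)

theorem flat_of_soc (hA : IsNilpotent (maximalIdeal A)) (M : Type v) [AddCommGroup M] [Module A M]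
    (h : ∀ w : M ⊗[A] soc A, mulMap M w = 0 → w = 0) : Module.Flat A M :=
  haveI := free_of_soc hA M h
  inferInstance

end soc

end K131.SocFlat
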