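import Mathlib.RingTheory.IsTensorProduct
import Mathlib.RingTheory.Filtration
import Mathlib.RingTheory.Flat.Stability
import Mathlib.RingTheory.Nakayama
import Mathlib.RingTheory.HopkinsLevitzki
import Mathlib.LinearAlgebra.TensorProduct.RightExactness
import Groth.Agent.EGA43.K131.SocFlat

/-!
# Pointwise descent of flatness over an Artinian local ring

`A` local Artinian, `C` a Noetherian local `A`-algebra, `M` a finite `C`-module, `(B i)` a jointly injective family
of local `A`-algebras, `R i = C ⊗[A] B i`. If for all `i` and all primes `Q` of `R i` over the two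
maximal ideals the module `M ⊗[A] B i` is flat over `B i` at `Q`, then `M` is flat over `A`.

The flatness at `Q` is used in the form `VanAt`: an element of the kernel of `M ⊗ soc A → M` is killed by an element
outside `Q` in `(R ⊗[C] M) ⊗[B] (soc A) B`; `vanAt_of_flat` gives it from a flat map `R → U` to a
local ring `U` with `U ⊗[C] M` flat over `B`.
-/

set_option autoImplicit false
set_option linter.unusedSectionVars false
universe u
open TensorProduct IsLocalRing

namespace K131.ArtAt

open K131.SocFlat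

/-- If `U` is a flat local `R`-algebra and `1 ⊗ u = 0` in `U ⊗ W`, then `u` is killed by an element of `R` which
becomes a unit of `U`. -/
theorem exists_smul_eq_zero {R U W : Type u} [CommRing R] [CommRing U] [Algebra R U] [Module.Flat R U] [IsLocalRing U]
    [AddCommGroup W] [Module R W] (x : W) (h : (1 : U) ⊗ₜ[R] x = 0) :
    ∃ r : R, r ∉ (maximalIdeal U).comap (algebraMap R U) ∧ r • x = 0 := by
  by_contra hc
  push Not at hc
  let I : Ideal R := LinearMap.ker (LinearMap.toSpanSingleton R W x)
  have hI : ∀ r ∈ I, algebraMap R U r ∈ maximalIdeal U := by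
    intro r hr
    by_contra h1
    exact hc r h1 hr
  let j : (R ⧸ I) →ₗ[R] W := I.liftQ (LinearMap.toSpanSingleton R W x) le_rfl
  have hj : Function.Injective j := by
    rw [← LinearMap.ker_eq_bot]
    exact Submodule.ker_liftQ_eq_bot _ _ _ le_rfl
  have h2 : Function.Injective (j.lTensor U) := Module.Flat.lTensor_preserves_injective_linearMap j hj
  have h3 : j.lTensor U ((1 : U) ⊗ₜ[R] (Submodule.Quotient.mk (1 : R) : R ⧸ I)) = 0 := by
    rw [LinearMap.lTensor_tmul]
    change (1 : U) ⊗ₜ[R] ((1 : R) • x) = 0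
    rw [one_smul, h]
  have h4 : ((1 : U) ⊗ₜ[R] (Submodule.Quotient.mk (1 : R) : R ⧸ I)) = 0 := h2 (by rw [h3, map_zero])
  let θ : (R ⧸ I) →ₗ[R] (U ⧸ maximalIdeal U) :=
    I.liftQ ((Algebra.linearMap R (U ⧸ maximalIdeal U))) fun r hr => by
      rw [LinearMap.mem_ker, Algebra.linearMap_apply, IsScalarTower.algebraMap_apply R U (U ⧸ maximalIdeal U)]
      exact Ideal.Quotient.eq_zero_iff_mem.mpr (hI r hr)
  let Θ : U ⊗[R] (R ⧸ I) →ₗ[R] (U ⧸ maximalIdeal U) :=
    TensorProduct.lift ((LinearMap.lsmul U (U ⧸ maximalIdeal U)).restrictScalars₁₂ R R |>.compl₂ θ)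
  have h5 := congrArg Θ h4
  rw [map_zero, TensorProduct.lift.tmul] at h5
  change (1 : U) • ((algebraMap R (U ⧸ maximalIdeal U)) 1) = 0 at h5
  rw [one_smul, map_one] at h5
  have : Nontrivial (U ⧸ maximalIdeal U) := Ideal.Quotient.nontrivial_iff.mpr (IsLocalRing.maximalIdeal.isMaximal U).ne_top
  exact one_ne_zero h5

section

variable {A C B R : Type u} [CommRing A] [CommRing C] [CommRing B] [CommRing R]
  [Algebra A B] [Algebra A C] [Algebra A R] [Algebra C R] [Algebra B R] [IsScalarTower A C R] [IsScalarTower A B R]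

variable (B) in
/-- `M ⊗[A] V → Z ⊗[B] S` for `A`-linear maps `M → Z`, `V → S` to `B`-modules -/
noncomputable def mp {M V Z S : Type u} [AddCommGroup M] [Module A M] [AddCommGroup V] [Module A V]
    [AddCommGroup Z] [Module A Z] [Module B Z] [IsScalarTower A B Z]
    [AddCommGroup S] [Module A S] [Module B S] [IsScalarTower A B S]
    (κ : M →ₗ[A] Z) (ν : V →ₗ[A] S) : M ⊗[A] V →ₗ[A] Z ⊗[B] S :=
  TensorProduct.lift ((((TensorProduct.mk B Z S).restrictScalars₁₂ A A).comp κ).compl₂ ν)

theorem mp_tmul {M V Z S : Type u} [AddCommGroup M] [Module A M] [AddCommGroup V] [Module A V]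
    [AddCommGroup Z] [Module A Z] [Module B Z] [IsScalarTower A B Z]
    [AddCommGroup S] [Module A S] [Module B S] [IsScalarTower A B S]
    (κ : M →ₗ[A] Z) (ν : V →ₗ[A] S) (x : M) (v : V) : mp B κ ν (x ⊗ₜ v) = κ x ⊗ₜ ν v := rfl

variable (C R) in
/-- `M → R ⊗[C] M` as an `A`-linear map -/
noncomputable def inc (M : Type u) [AddCommGroup M] [Module A M] [Module C M] [IsScalarTower A C M] :
    M →ₗ[A] R ⊗[C] M :=
  (TensorProduct.mk C R M 1).restrictScalars A

theorem inc_apply (M : Type u) [AddCommGroup M] [Module A M] [Module C M] [IsScalarTower A C M] (x : M) :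
    inc C R M (A := A) x = (1 : R) ⊗ₜ[C] x := rfl

variable (A B) in
/-- the ideal `V B` as a `B`-module receives `V` -/
noncomputable def incV (V : Ideal A) : V →ₗ[A] (V.map (algebraMap A B)) where
  toFun v := ⟨algebraMap A B v, Ideal.mem_map_of_mem _ v.2⟩
  map_add' x y := Subtype.ext (by
    change algebraMap A B ((x : A) + y) = _
    rw [map_add]
    rfl)
  map_smul' a x := Subtype.ext (by
    change algebraMap A B (a * (x : A)) = _
    rw [map_mul, RingHom.id_apply]
    exact (Algebra.smul_def _ _).symm)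

/-- the multiplication `M ⊗ V → M` for an ideal `V` -/
noncomputable def mulV (V : Ideal A) (M : Type u) [AddCommGroup M] [Module A M] : M ⊗[A] V →ₗ[A] M :=
  TensorProduct.lift ((LinearMap.lsmul A M).flip.compl₂ V.subtype)

theorem mulV_tmul (V : Ideal A) {M : Type u} [AddCommGroup M] [Module A M] (x : M) (v : V) :
    mulV V M (x ⊗ₜ v) = (v : A) • x := rfl

section flat

variable {U : Type u} [CommRing U] [Algebra R U] [Algebra B U] [Algebra C U] [Algebra A U] [IsScalarTower B R U]
  [IsScalarTower C R U] [IsScalarTower A R U] [IsScalarTower A B U]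
  (M : Type u) [AddCommGroup M] [Module A M] [Module C M] [IsScalarTower A C M]

theorem tmul_mp_eq_zero [Module.Flat B (U ⊗[C] M)] (V : Ideal A) (w : M ⊗[A] V) (hw : mulV V M w = 0) :
    (1 : U) ⊗ₜ[R] (mp B (inc C R M) (incV A B V) w) = 0 := by
  let P := R ⊗[C] M
  let Z := U ⊗[R] P
  let S := V.map (algebraMap A B)
  have hZ : Module.Flat B Z :=
    Module.Flat.of_linearEquiv ((AlgebraTensorModule.cancelBaseChange C R U U M).restrictScalars B)
  let κ' : M →ₗ[A] Z := ((TensorProduct.mk R U P 1).restrictScalars A).comp (inc C R M)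
  let F : M ⊗[A] V →ₗ[A] Z ⊗[B] S := mp B κ' (incV A B V)
  have h1 : ∀ y : M ⊗[A] V, AlgebraTensorModule.assoc B R R U P S (F y) =
      (1 : U) ⊗ₜ[R] (mp B (inc C R M) (incV A B V) y) := by
    intro y
    induction y with
    | zero => simp
    | add x y hx hy => simp only [map_add, hx, hy, TensorProduct.tmul_add]
    | tmul x v => rfl
  have h2 : ∀ y : M ⊗[A] V, TensorProduct.rid B Z ((Submodule.subtype S).lTensor Z (F y)) = κ' (mulV V M y) := by
    intro y
    induction y with
    | zero => simp
    | add x y hx hy => simp only [map_add, hx, hy]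
    | tmul x v =>
      change (algebraMap A B (v : A)) • κ' x = κ' ((v : A) • x)
      rw [map_smul, algebraMap_smul]
  have h3 : Function.Injective ((Submodule.subtype S).lTensor Z) :=
    Module.Flat.lTensor_preserves_injective_linearMap _ S.injective_subtype
  have h4 : F w = 0 := by
    apply h3
    apply (TensorProduct.rid B Z).injective
    rw [h2, hw]
    simp
  rw [← h1, h4, map_zero]

end flat

section step

variable (N : Type u) [AddCommGroup N] [Module A N] [Module C N] [IsScalarTower A C N]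
  {V T : Type u} [AddCommGroup V] [Module A V] [AddCommGroup T] [Module A T] [Module B T] [IsScalarTower A B T]
  (ν : V →ₗ[A] T)

theorem smul_mp (c : C) (y : N ⊗[A] V) :
    algebraMap C R c • mp B (inc C R N) ν y = mp B (inc C R N) ν (c • y) := by
  induction y with
  | zero => simp
  | add x y hx hy => simp only [map_add, smul_add, hx, hy]
  | tmul x v =>
    rw [TensorProduct.smul_tmul', mp_tmul, mp_tmul, TensorProduct.smul_tmul', inc_apply, inc_apply,
      TensorProduct.tmul_smul, algebraMap_smul]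

/-- `(R ⊗[C] N) ⊗[B] T → N ⊗[A] T` when `R = C ⊗[A] B` -/
theorem lTensor_eq_zero_of_mp [Algebra.IsPushout A B C R] (y : N ⊗[A] V) (h : mp B (inc C R N) ν y = 0) :
    ν.lTensor N y = 0 := by
  let e1 := TensorProduct.comm B (R ⊗[C] N) T
  let e2 := LinearMap.lTensor T (Algebra.IsPushout.cancelBaseChange A B C R N).toLinearMap
  let e3 := AlgebraTensorModule.cancelBaseChange A B B T N
  let e4 := TensorProduct.comm A T N
  have key : ∀ y : N ⊗[A] V, e4 (e3 (e2 (e1 (mp B (inc C R N) ν y)))) = ν.lTensor N y := by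
    intro y
    induction y with
    | zero => simp
    | add x y hx hy => simp only [map_add, hx, hy]
    | tmul x v =>
      change e4 (e3 (e2 ((ν v) ⊗ₜ[B] ((1 : R) ⊗ₜ[C] x)))) = x ⊗ₜ[A] ν v
      change e4 (e3 ((ν v) ⊗ₜ[B] (Algebra.IsPushout.cancelBaseChange A B C R N ((1 : R) ⊗ₜ[C] x)))) = _
      rw [Algebra.IsPushout.cancelBaseChange_tmul]
      change e4 (e3 ((ν v) ⊗ₜ[B] ((1 : B) ⊗ₜ[A] x))) = _
      rw [AlgebraTensorModule.cancelBaseChange_tmul, one_smul]
      rfl
  rw [← key, h]
  simp

end step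

/-- The main step: if `w ∈ M ⊗ soc A` has an image `∑ eᵢ ⊗ tᵢ` in `N ⊗ soc A` (`N` a quotient of `M`, the `eᵢ`
independent modulo `m_A`) which is killed by `m_C`, and if `w` vanishes in `(R ⊗[C] M) ⊗[B] (soc A) B` at all
primes `Q` over `m_C` and `m_B`, then the `tᵢ` become zero in `B`. -/
theorem main_step [IsLocalRing A] [IsLocalRing B] [IsLocalRing C] [Algebra.IsPushout A B C R]
    {M N : Type u} [AddCommGroup M] [Module A M] [Module C M] [IsScalarTower A C M]
    [AddCommGroup N] [Module A N] [Module C N] [IsScalarTower A C N] (π : M →ₗ[C] N)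
    (w : M ⊗[A] soc A)
    (hvan : ∀ Q : Ideal R, Q.IsPrime → Q.comap (algebraMap C R) = maximalIdeal C →
      Q.comap (algebraMap B R) = maximalIdeal B →
      ∃ r : R, r ∉ Q ∧ r • (mp B (inc C R M) (incV A B (soc A)) w) = 0)
    (hC : ∀ c ∈ maximalIdeal C, c • (AlgebraTensorModule.rTensor A (soc A) π w) = 0)
    {ι : Type u} {e : ι → N} {φ : ι → N →ₗ[A] (A ⧸ maximalIdeal A)} (h1 : ∀ i, φ i (e i) = 1)
    (h0 : ∀ i j, i ≠ j → φ i (e j) = 0) (t : ι →₀ soc A)
    (ht : AlgebraTensorModule.rTensor A (soc A) π w = t.sum fun i a => e i ⊗ₜ[A] a) (i : ι) :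
    algebraMap A B (t i) = 0 := by
  classical
  let S : Ideal B := (soc A).map (algebraMap A B)
  let S' : Submodule B S := Submodule.span B ((fun i => incV A B (soc A) (t i)) '' (t.support : Set ι))
  let T := S ⧸ (maximalIdeal B • S')
  let ν : soc A →ₗ[A] T := ((Submodule.mkQ (maximalIdeal B • S')).restrictScalars A).comp (incV A B (soc A))
  let wb : N ⊗[A] soc A := AlgebraTensorModule.rTensor A (soc A) π w
  let ω : (R ⊗[C] N) ⊗[B] T := mp B (inc C R N) ν wb
  have hmem : ∀ j, incV A B (soc A) (t j) ∈ S' := by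
    intro j
    by_cases hj : j ∈ t.support
    · exact Submodule.subset_span ⟨j, hj, rfl⟩
    · rw [Finsupp.notMem_support_iff] at hj
      rw [hj, map_zero]
      exact Submodule.zero_mem _
  -- the map from `(R ⊗ M) ⊗ S`
  let G : (R ⊗[C] M) ⊗[B] S →ₗ[R] (R ⊗[C] N) ⊗[B] T :=
    AlgebraTensorModule.map (π.baseChange R) (Submodule.mkQ (maximalIdeal B • S'))
  have hG : ∀ y : M ⊗[A] soc A, G (mp B (inc C R M) (incV A B (soc A)) y) =
      mp B (inc C R N) ν (AlgebraTensorModule.rTensor A (soc A) π y) := by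
    intro y
    induction y with
    | zero => simp
    | add x y hx hy => simp only [map_add, hx, hy]
    | tmul x v =>
      change G (((1 : R) ⊗ₜ[C] x) ⊗ₜ[B] (incV A B (soc A) v)) = ((1 : R) ⊗ₜ[C] π x) ⊗ₜ[B] ν v
      rfl
  have hωC : ∀ c ∈ maximalIdeal C, algebraMap C R c • ω = 0 := by
    intro c hc
    change algebraMap C R c • mp B (inc C R N) ν wb = 0
    rw [smul_mp, hC c hc, map_zero]
  have hωB : ∀ b ∈ maximalIdeal B, algebraMap B R b • ω = 0 := by
    intro b hb
    change algebraMap B R b • mp B (inc C R N) ν wb = 0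
    rw [show wb = _ from ht, Finsupp.sum, map_sum, Finset.smul_sum]
    refine Finset.sum_eq_zero fun j _ => ?_
    rw [mp_tmul, algebraMap_smul, TensorProduct.smul_tmul', TensorProduct.smul_tmul]
    have h2 : b • ν (t j) = 0 := by
      change b • Submodule.Quotient.mk (incV A B (soc A) (t j)) = (0 : T)
      rw [← Submodule.Quotient.mk_smul, Submodule.Quotient.mk_eq_zero]
      exact Submodule.smul_mem_smul hb (hmem j)
    rw [h2, TensorProduct.tmul_zero]
  have hω : ω = 0 := by
    by_contra hne
    let I : Ideal R := LinearMap.ker (LinearMap.toSpanSingleton R _ ω)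
    have hI : I ≠ ⊤ := by
      intro h
      have h3 : (1 : R) ∈ I := by
        rw [h]
        trivial
      change (1 : R) • ω = 0 at h3
      rw [one_smul] at h3
      exact hne h3
    obtain ⟨Q, hQ, hIQ⟩ := Ideal.exists_le_maximal I hI
    have hQ' := hQ.isPrime
    have h4 : Q.comap (algebraMap C R) = maximalIdeal C := by
      refine ((IsLocalRing.maximalIdeal.isMaximal C).eq_of_le (Ideal.IsPrime.ne_top (hQ'.comap _)) ?_).symm
      intro c hc
      exact hIQ (hωC c hc)
    have h5 : Q.comap (algebraMap B R) = maximalIdeal B := by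
      refine ((IsLocalRing.maximalIdeal.isMaximal B).eq_of_le (Ideal.IsPrime.ne_top (hQ'.comap _)) ?_).symm
      intro c hc
      exact hIQ (hωB c hc)
    obtain ⟨r, hr, hrw⟩ := hvan Q hQ' h4 h5
    apply hr
    apply hIQ
    change r • ω = 0
    have h6 := congrArg G hrw
    rw [map_smul, hG, map_zero] at h6
    exact h6
  have hz : ν.lTensor N wb = 0 := lTensor_eq_zero_of_mp N ν wb hω
  have hTA : ∀ a ∈ maximalIdeal A, ∀ x : T, a • x = 0 := by
    intro a ha x
    obtain ⟨⟨y, hy⟩, rfl⟩ := Submodule.mkQ_surjective _ x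
    rw [← LinearMap.map_smul_of_tower]
    have h7 : a • (⟨y, hy⟩ : S) = 0 := by
      apply Subtype.ext
      change a • y = 0
      rw [Algebra.smul_def]
      have h8 : algebraMap A B a * y ∈ ((maximalIdeal A) * (soc A)).map (algebraMap A B) := by
        rw [Ideal.map_mul]
        exact Ideal.mul_mem_mul (Ideal.mem_map_of_mem _ ha) hy
      have h9 : (maximalIdeal A) * (soc A) = ⊥ := by
        rw [eq_bot_iff, Ideal.mul_le]
        intro r hr s hs
        exact hs r hr
      rwa [h9, Ideal.map_bot, Ideal.mem_bot] at h8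
    rw [h7, map_zero]
  have hν : ∀ j, ν (t j) = 0 := by
    intro j
    have h10 : ν.lTensor N wb = (t.mapRange ν (map_zero ν)).sum fun i a => e i ⊗ₜ[A] a := by
      rw [show wb = _ from ht, Finsupp.sum_mapRange_index (fun _ => TensorProduct.tmul_zero _ _),
        Finsupp.sum, Finsupp.sum, map_sum]
      rfl
    have h11 := contr_sum (T := T) hTA h1 h0 (t.mapRange ν (map_zero ν)) j
    rw [← h10, hz, map_zero] at h11
    exact h11.symm
  have hle : S' ≤ maximalIdeal B • S' := by
    apply Submodule.span_le.mpr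
    rintro _ ⟨j, _, rfl⟩
    have h12 := hν j
    change Submodule.Quotient.mk (incV A B (soc A) (t j)) = (0 : T) at h12
    rwa [Submodule.Quotient.mk_eq_zero] at h12
  have hbot : S' = ⊥ := by
    refine Submodule.eq_bot_of_le_smul_of_le_jacobson_bot (maximalIdeal B) S' ?_ hle
      (IsLocalRing.maximalIdeal_le_jacobson _)
    exact Submodule.fg_span (Set.Finite.image _ (Finset.finite_toSet _))
  have h13 := hmem i
  rw [hbot, Submodule.mem_bot] at h13
  exact congrArg Subtype.val h13

/-- vanishing at a prime `Q` of `R` from a flat local algebra `R → U` over `Q` with `U ⊗ M` flat over `B` -/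
theorem vanAt_of_flat {U : Type u} [CommRing U] [Algebra R U] [Algebra B U] [Algebra C U] [Algebra A U]
    [IsScalarTower B R U] [IsScalarTower C R U] [IsScalarTower A R U] [IsScalarTower A B U] [IsLocalRing U]
    [Module.Flat R U] (M : Type u) [AddCommGroup M] [Module A M] [Module C M] [IsScalarTower A C M]
    [Module.Flat B (U ⊗[C] M)] (V : Ideal A) (w : M ⊗[A] V) (hw : mulV V M w = 0) (Q : Ideal R)
    (hQ : (maximalIdeal U).comap (algebraMap R U) = Q) :
    ∃ r : R, r ∉ Q ∧ r • (mp B (inc C R M) (incV A B V) w) = 0 := by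
  have h := tmul_mp_eq_zero (C := C) (B := B) (R := R) (U := U) M V w hw
  obtain ⟨r, hr, hr'⟩ := exists_smul_eq_zero (R := R) (U := U) (W := (R ⊗[C] M) ⊗[B] (V.map (algebraMap A B))) _ h
  exact ⟨r, by rwa [← hQ], hr'⟩

omit [CommRing B] [Algebra A B] in
theorem mulV_smul (V : Ideal A) (M : Type u) [AddCommGroup M] [Module A M] [Module C M] [IsScalarTower A C M]
    (c : C) (w : M ⊗[A] V) : mulV V M (c • w) = c • mulV V M w := by
  induction w with
  | zero => simp
  | add x y hx hy => simp only [map_add, smul_add, hx, hy]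
  | tmul x v =>
    rw [TensorProduct.smul_tmul', mulV_tmul, mulV_tmul, smul_comm]

theorem finite_tensor (M : Type u) [AddCommGroup M] [Module A M] [Module C M] [IsScalarTower A C M]
    [Module.Finite C M] (V : Type u) [AddCommGroup V] [Module A V] [Module.Finite A V] :
    Module.Finite C (M ⊗[A] V) := by
  obtain ⟨n, f, hf⟩ := Module.Finite.exists_fin' A V
  have h1 : Function.Surjective (AlgebraTensorModule.lTensor C M f) := LinearMap.lTensor_surjective M hf
  have h2 : Module.Finite C (M ⊗[A] (Fin n → A)) :=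
    Module.Finite.equiv (TensorProduct.piScalarRight A C M (Fin n)).symm
  exact Module.Finite.of_surjective _ h1

theorem mem_of_rTensor_mkQ {M : Type u} [AddCommGroup M] [Module A M] [Module C M] [IsScalarTower A C M]
    (P : Submodule C M) {V : Type u} [AddCommGroup V] [Module A V] (S : Submodule C (M ⊗[A] V))
    (hS : ∀ x ∈ P, ∀ v : V, x ⊗ₜ[A] v ∈ S) (w : M ⊗[A] V)
    (h : AlgebraTensorModule.rTensor A V P.mkQ w = 0) : w ∈ S := by
  have h2 : Function.Exact (P.subtype.restrictScalars A) (P.mkQ.restrictScalars A) :=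
    LinearMap.exact_subtype_mkQ P
  have h3 := rTensor_exact V h2 (Submodule.mkQ_surjective P)
  obtain ⟨y, hy⟩ := (h3 w).mp h
  rw [← hy]
  clear hy
  induction y with
  | zero =>
    rw [map_zero]
    exact Submodule.zero_mem _
  | add x y hx hy =>
    rw [map_add]
    exact Submodule.add_mem _ hx hy
  | tmul x v => exact hS x x.2 v

/-- a nonzero element of the kernel of `M ⊗ V → M` gives one whose image in `(M / m_C^n M) ⊗ V` is nonzero and
killed by `m_C` -/
theorem exists_quot [IsNoetherianRing A] [IsLocalRing C] [IsNoetherianRing C]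
    (M : Type u) [AddCommGroup M] [Module A M] [Module C M] [IsScalarTower A C M] [Module.Finite C M]
    (V : Ideal A) (w₀ : M ⊗[A] V) (hw₀ : mulV V M w₀ = 0) (hne : w₀ ≠ 0) :
    ∃ (n : ℕ) (w : M ⊗[A] V), mulV V M w = 0 ∧
      AlgebraTensorModule.rTensor A V (Submodule.mkQ (maximalIdeal C ^ n • (⊤ : Submodule C M))) w ≠ 0 ∧
      ∀ c ∈ maximalIdeal C, c •
        AlgebraTensorModule.rTensor A V (Submodule.mkQ (maximalIdeal C ^ n • (⊤ : Submodule C M))) w = 0 := by
  classical
  have hfin : Module.Finite C (M ⊗[A] V) := finite_tensor M V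
  let K : Submodule C (M ⊗[A] V) :=
    { carrier := {w | mulV V M w = 0}
      add_mem' := fun {a b} ha hb => by
        change mulV V M (a + b) = 0
        rw [map_add, ha, hb, add_zero]
      zero_mem' := map_zero _
      smul_mem' := fun c a ha => by
        change mulV V M (c • a) = 0
        rw [mulV_smul, ha, smul_zero] }
  have hex : ∃ n : ℕ, ¬ K ≤ maximalIdeal C ^ n • (⊤ : Submodule C (M ⊗[A] V)) := by
    by_contra hc
    push Not at hc
    have h1 : K ≤ ⨅ n : ℕ, maximalIdeal C ^ n • (⊤ : Submodule C (M ⊗[A] V)) := le_iInf hc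
    rw [Ideal.iInf_pow_smul_eq_bot_of_isLocalRing _ (IsLocalRing.maximalIdeal.isMaximal C).ne_top] at h1
    exact hne (h1 (show w₀ ∈ K from hw₀))
  let n := Nat.find hex
  have hn : ¬ K ≤ maximalIdeal C ^ n • (⊤ : Submodule C (M ⊗[A] V)) := Nat.find_spec hex
  have hn0 : n ≠ 0 := by
    intro h
    rw [h] at hn
    apply hn
    rw [pow_zero, Ideal.one_eq_top, Submodule.top_smul]
    exact le_top
  obtain ⟨k, hk⟩ := Nat.exists_eq_succ_of_ne_zero hn0
  have hk' : K ≤ maximalIdeal C ^ k • (⊤ : Submodule C (M ⊗[A] V)) := by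
    by_contra h
    have : n ≤ k := Nat.find_min' hex h
    omega
  obtain ⟨w, hwK, hw⟩ := Set.not_subset.mp hn
  let π := AlgebraTensorModule.rTensor A V (Submodule.mkQ (maximalIdeal C ^ n • (⊤ : Submodule C M)))
  refine ⟨n, w, hwK, ?_, ?_⟩
  · intro h
    apply hw
    refine mem_of_rTensor_mkQ _ _ ?_ w h
    intro x hx v
    refine Submodule.smul_induction_on hx ?_ ?_
    · intro r hr m _
      rw [← TensorProduct.smul_tmul']
      exact Submodule.smul_mem_smul hr trivial
    · intro a b ha hb
      rw [TensorProduct.add_tmul]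
      exact Submodule.add_mem _ ha hb
  · intro c hc
    rw [← map_smul]
    have h4 : c • w ∈ maximalIdeal C ^ n • (⊤ : Submodule C (M ⊗[A] V)) := by
      rw [hk, pow_succ', ← smul_eq_mul, Submodule.smul_assoc]
      exact Submodule.smul_mem_smul hc (hk' hwK)
    have h5 : maximalIdeal C ^ n • (⊤ : Submodule C (M ⊗[A] V)) ≤ LinearMap.ker π := by
      rw [Submodule.smul_le]
      intro r hr m _
      rw [LinearMap.mem_ker, map_smul]
      induction m with
      | zero => simp
      | add x y hx hy => simp only [map_add, smul_add, hx trivial, hy trivial, add_zero]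
      | tmul x v =>
        change r • ((Submodule.Quotient.mk x : M ⧸ _) ⊗ₜ[A] v) = 0
        rw [TensorProduct.smul_tmul', ← Submodule.Quotient.mk_smul]
        have h6 : (Submodule.Quotient.mk (r • x) : M ⧸ (maximalIdeal C ^ n • (⊤ : Submodule C M))) = 0 := by
          rw [Submodule.Quotient.mk_eq_zero]
          exact Submodule.smul_mem_smul hr trivial
        rw [h6, TensorProduct.zero_tmul]
    exact h5 h4

end

/-- Descent of flatness over a local Artinian ring along a jointly injective family of local algebras, at the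
closed points of the two factors. -/
theorem flat_of_family {A C : Type u} [CommRing A] [CommRing C] [Algebra A C] [IsLocalRing A] [IsArtinianRing A]
    [IsLocalRing C] [IsNoetherianRing C] (M : Type u) [AddCommGroup M] [Module A M] [Module C M]
    [IsScalarTower A C M] [Module.Finite C M] {ι : Type u} (B R : ι → Type u) [∀ i, CommRing (B i)]
    [∀ i, IsLocalRing (B i)] [∀ i, CommRing (R i)] [∀ i, Algebra A (B i)] [∀ i, Algebra A (R i)]
    [∀ i, Algebra C (R i)] [∀ i, Algebra (B i) (R i)] [∀ i, IsScalarTower A C (R i)]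
    [∀ i, IsScalarTower A (B i) (R i)] [∀ i, Algebra.IsPushout A (B i) C (R i)]
    (hinj : ∀ a : A, (∀ i, algebraMap A (B i) a = 0) → a = 0)
    (hvan : ∀ i (w : M ⊗[A] soc A), mulV (soc A) M w = 0 → ∀ Q : Ideal (R i), Q.IsPrime →
      Q.comap (algebraMap C (R i)) = maximalIdeal C → Q.comap (algebraMap (B i) (R i)) = maximalIdeal (B i) →
      ∃ r : R i, r ∉ Q ∧ r • (mp (B i) (inc C (R i) M) (incV A (B i) (soc A)) w) = 0) :
    Module.Flat A M := by
  have hnil : IsNilpotent (maximalIdeal A) := by
    rw [← IsLocalRing.jacobson_eq_maximalIdeal ⊥ bot_ne_top]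
    exact IsArtinianRing.isNilpotent_jacobson_bot
  refine flat_of_soc hnil M ?_
  intro w₀ hw₀
  by_contra hne
  obtain ⟨n, w, hw, hw1, hw2⟩ := exists_quot (C := C) M (soc A) w₀ hw₀ hne
  obtain ⟨κ, e, φ, h1, h0, hsp⟩ := exists_dual (A := A) (M ⧸ (maximalIdeal C ^ n • (⊤ : Submodule C M)))
  obtain ⟨t, ht⟩ := exists_sum_dual (T := soc A) soc_smul hsp
    (AlgebraTensorModule.rTensor A (soc A) (Submodule.mkQ (maximalIdeal C ^ n • (⊤ : Submodule C M))) w)
  apply hw1
  rw [ht]
  have ht0 : t = 0 := by
    ext j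
    apply hinj
    intro i
    exact main_step (R := R i) _ w (hvan i w hw) hw2 h1 h0 t ht j
  rw [ht0, Finsupp.sum_zero_index]

end K131.ArtAt
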