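import Mathlib.AlgebraicGeometry.Morphisms.UniversallyInjective
import Mathlib.RingTheory.Flat.Localization
import Groth.Agent.EGA43.K131.ArtAt
import Groth.Agent.VarietyA.StalkBC
import Groth.Agent.Fdesc.FlatBC
import Groth.Agent.CycB.CohStalk

/-!
# Pointwise descent of flatness over a local Artinian ring, for schemes
-/

set_option autoImplicit false
set_option linter.style.haveILetI false
universe u
open CategoryTheory CategoryTheory.Limits AlgebraicGeometry TensorProduct IsLocalRing

namespace K131.ArtSch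

open Groth.Agent Groth.Agent.VarietyA.StalkBC

/-- the map `A → O_{Spec A, y}` is the localization at `y` -/
theorem isLocalization_stalk {A : Type u} [CommRing A] (y : Spec (CommRingCat.of A)) :
    letI : Algebra A ((Spec (CommRingCat.of A)).presheaf.stalk y) :=
      (stalkRingHom (𝟙 (Spec (CommRingCat.of A))) y).toAlgebra
    IsLocalization.AtPrime ((Spec (CommRingCat.of A)).presheaf.stalk y) y.asIdeal := by
  letI : Algebra A ((Spec (CommRingCat.of A)).presheaf.stalk y) :=
    (stalkRingHom (𝟙 (Spec (CommRingCat.of A))) y).toAlgebra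
  let e : (Spec (CommRingCat.of A)).presheaf.stalk y ≃+* Localization.AtPrime y.asIdeal :=
    (Spec.stalkIso (CommRingCat.of A) y).commRingCatIsoToRingEquiv
  have h1 : e.toRingHom.comp (stalkRingHom (𝟙 (Spec (CommRingCat.of A))) y) =
      algebraMap A (Localization.AtPrime y.asIdeal) := by
    have h2 := stalkRingHom_Spec (R := A) (𝟙 (CommRingCat.of A)) y
    have h3 : Spec.map (𝟙 (CommRingCat.of A)) = 𝟙 (Spec (CommRingCat.of A)) := Spec.map_id _
    rw [stalkRingHom_congr _ h3] at h2
    exact h2
  have h4 : ∀ a : A, e (algebraMap A _ a) = algebraMap A _ a := fun a => RingHom.congr_fun h1 a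
  exact IsLocalization.isLocalization_of_algEquiv y.asIdeal.primeCompl (AlgEquiv.ofRingEquiv (f := e.symm) fun a => by
    rw [RingEquiv.symm_apply_eq, h4])

/-- `F_x` is flat over `Spec A` at `x` iff it is flat over `A` -/
theorem isFlatOverAt_iff {A : Type u} [CommRing A] {X : Scheme.{u}} (f : X ⟶ Spec (CommRingCat.of A)) (F : X.Modules)
    (x : X) :
    letI : Module A (F.presheaf.stalk x) := Module.compHom _ (stalkRingHom f x)
    FlatMod.IsFlatOverAt f F x ↔ Module.Flat A (F.presheaf.stalk x) := by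
  letI i1 : Module A (F.presheaf.stalk x) := Module.compHom _ (stalkRingHom f x)
  letI i2 : Algebra A ((Spec (CommRingCat.of A)).presheaf.stalk (f x)) :=
    (stalkRingHom (𝟙 (Spec (CommRingCat.of A))) (f x)).toAlgebra
  letI i3 := FlatMod.moduleStalkOver f F x
  haveI i4 := isLocalization_stalk (f x)
  haveI : IsScalarTower A ((Spec (CommRingCat.of A)).presheaf.stalk (f x)) (F.presheaf.stalk x) := by
    refine ⟨fun a b m => ?_⟩
    have h5 : stalkRingHom f x = (f.stalkMap x).hom.comp (stalkRingHom (𝟙 (Spec (CommRingCat.of A))) (f x)) := by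
      rw [stalkRingHom_comp, stalkRingHom_congr _ (Category.comp_id f)]
    change (f.stalkMap x).hom (stalkRingHom (𝟙 (Spec (CommRingCat.of A))) (f x) a * b) • m =
      stalkRingHom f x a • ((f.stalkMap x).hom b • m)
    rw [h5, map_mul, mul_smul]
    rfl
  exact Module.flat_iff_of_isLocalization (R := A) ((Spec (CommRingCat.of A)).presheaf.stalk (f x))
    (f x).asIdeal.primeCompl (F.presheaf.stalk x)

section van

variable {A B : Type u} [CommRing A] [CommRing B] [Algebra A B] {X : Scheme.{u}} (f : X ⟶ Spec (CommRingCat.of A))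
  (F : X.Modules)

/-- naturality of `stalkRingHom` in the base -/
theorem stalkRingHom_comp_SpecMap {Z : Scheme.{u}} (s : Z ⟶ Spec (CommRingCat.of B)) (z : Z) :
    stalkRingHom (s ≫ Spec.map (CommRingCat.ofHom (algebraMap A B))) z =
      (stalkRingHom s z).comp (algebraMap A B) := by
  have h1 : (Scheme.ΓSpecIso (CommRingCat.of A)).inv ≫ (Spec.map (CommRingCat.ofHom (algebraMap A B))).appTop =
      CommRingCat.ofHom (algebraMap A B) ≫ (Scheme.ΓSpecIso (CommRingCat.of B)).inv :=
    (Scheme.ΓSpecIso_inv_naturality _).symm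
  have h2 : (Scheme.ΓSpecIso (CommRingCat.of A)).inv ≫
      (s ≫ Spec.map (CommRingCat.ofHom (algebraMap A B))).appTop ≫ Z.presheaf.germ ⊤ z trivial =
      CommRingCat.ofHom (algebraMap A B) ≫ (Scheme.ΓSpecIso (CommRingCat.of B)).inv ≫ s.appTop ≫
        Z.presheaf.germ ⊤ z trivial := by
    rw [Scheme.Hom.comp_appTop, Category.assoc, reassoc_of% h1]
  exact congrArg CommRingCat.Hom.hom h2

open K131.SocFlat K131.ArtAt

/-- The structure on the local ring `U = O_{P, z}` of `P = X ×_{Spec A} Spec B` at the point `z` given by the prime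
`Q` of `O_{X,x} ⊗ B`. -/
theorem with_U (z : ↥(pullback f (Spec.map (CommRingCat.ofHom (algebraMap A B)))))
    (hfl : FlatMod.IsFlatOverAt (pullback.snd f (Spec.map (CommRingCat.ofHom (algebraMap A B))))
      ((Scheme.Modules.pullback (pullback.fst f (Spec.map (CommRingCat.ofHom (algebraMap A B))))).obj F) z)
    (x : X) (hx : pullback.fst f (Spec.map (CommRingCat.ofHom (algebraMap A B))) z = x)
    [Algebra A (X.presheaf.stalk x)] (h : algebraMap A (X.presheaf.stalk x) = stalkRingHom f x)
    [Module A (F.presheaf.stalk x)] [IsScalarTower A (X.presheaf.stalk x) (F.presheaf.stalk x)]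
    (Q : Spec (CommRingCat.of (X.presheaf.stalk x ⊗[A] B))) (hQ : specTensorTo f B x h Q = z) (motive : Prop)
    (k : letI : Algebra B (X.presheaf.stalk x ⊗[A] B) := Algebra.TensorProduct.rightAlgebra
      ∀ (U : Type u) [CommRing U] [IsLocalRing U] [Algebra A U] [Algebra B U] [Algebra (X.presheaf.stalk x) U]
        [Algebra (X.presheaf.stalk x ⊗[A] B) U] [IsScalarTower A B U]
        [IsScalarTower (X.presheaf.stalk x) (X.presheaf.stalk x ⊗[A] B) U]
        [IsScalarTower B (X.presheaf.stalk x ⊗[A] B) U] [IsScalarTower A (X.presheaf.stalk x ⊗[A] B) U]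
        [Module.Flat (X.presheaf.stalk x ⊗[A] B) U] [Module.Flat B (U ⊗[X.presheaf.stalk x] F.presheaf.stalk x)]
        (_ : (maximalIdeal U).comap (algebraMap (X.presheaf.stalk x ⊗[A] B) U) = Q.asIdeal), motive) :
    motive := by
  subst hx
  let P := pullback f (Spec.map (CommRingCat.ofHom (algebraMap A B)))
  let p : P ⟶ X := pullback.fst f (Spec.map (CommRingCat.ofHom (algebraMap A B)))
  let q : P ⟶ Spec (CommRingCat.of B) := pullback.snd f (Spec.map (CommRingCat.ofHom (algebraMap A B)))
  let C := X.presheaf.stalk (p z)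
  let U := P.presheaf.stalk z
  have w0 : p ≫ f = q ≫ Spec.map (CommRingCat.ofHom (algebraMap A B)) := pullback.condition
  letI i1 : Algebra B (C ⊗[A] B) := Algebra.TensorProduct.rightAlgebra
  letI i2 : Algebra C U := (p.stalkMap z).hom.toAlgebra
  letI i3 : Algebra B U := (stalkRingHom q z).toAlgebra
  letI i4 : Algebra A U := ((stalkRingHom q z).comp (algebraMap A B)).toAlgebra
  have e1 : algebraMap A U = (algebraMap C U).comp (algebraMap A C) := by
    change (stalkRingHom q z).comp (algebraMap A B) = (p.stalkMap z).hom.comp (algebraMap A C)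
    rw [h, stalkRingHom_comp, stalkRingHom_congr _ w0, stalkRingHom_comp_SpecMap]
  haveI t1 : IsScalarTower A C U := IsScalarTower.of_algebraMap_eq' e1
  haveI t2 : IsScalarTower A B U := IsScalarTower.of_algebraMap_eq' rfl
  have hflat : (Algebra.TensorProduct.productMap (IsScalarTower.toAlgHom A C U)
      (IsScalarTower.toAlgHom A B U)).toRingHom.Flat := by
    haveI := flat_fromSpecStalk P z
    exact Fdesc.StalkCube.flat_productMap_of_cube
      (IsPullback.of_hasPullback f (Spec.map (CommRingCat.ofHom (algebraMap A B)))) (P.fromSpecStalk z)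
      (X.fromSpecStalk (p z)) (𝟙 (Spec (CommRingCat.of B))) (𝟙 (Spec (CommRingCat.of A)))
      (Scheme.SpecMap_stalkMap_fromSpecStalk p)
      (by
        rw [Category.comp_id]
        exact (fromSpecStalk_comp q z).symm)
      (by
        rw [Category.comp_id, h]
        exact (fromSpecStalk_comp f (p z)).symm)
      (by rw [Category.comp_id, Category.id_comp])
  letI i5 : Algebra (C ⊗[A] B) U := (Algebra.TensorProduct.productMap (IsScalarTower.toAlgHom A C U)
      (IsScalarTower.toAlgHom A B U)).toRingHom.toAlgebra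
  haveI : Module.Flat (C ⊗[A] B) U := hflat
  haveI t3 : IsScalarTower C (C ⊗[A] B) U := IsScalarTower.of_algebraMap_eq fun s => by
    change _ = Algebra.TensorProduct.productMap (IsScalarTower.toAlgHom A C U)
      (IsScalarTower.toAlgHom A B U) (s ⊗ₜ 1)
    simp
  haveI t4 : IsScalarTower B (C ⊗[A] B) U := IsScalarTower.of_algebraMap_eq fun t => by
    change _ = Algebra.TensorProduct.productMap (IsScalarTower.toAlgHom A C U)
      (IsScalarTower.toAlgHom A B U) (1 ⊗ₜ t)
    simp
  haveI t5 : IsScalarTower A (C ⊗[A] B) U := IsScalarTower.of_algebraMap_eq fun a => by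
    change _ = Algebra.TensorProduct.productMap (IsScalarTower.toAlgHom A C U)
      (IsScalarTower.toAlgHom A B U) (algebraMap A C a ⊗ₜ 1)
    rw [Algebra.TensorProduct.productMap_apply_tmul, map_one, mul_one]
    exact RingHom.congr_fun e1 a
  have hflM : Module.Flat B (U ⊗[C] F.presheaf.stalk (p z)) := by
    have h6 := (isFlatOverAt_iff q ((Scheme.Modules.pullback p).obj F) z).mp hfl
    letI i6 : Module B (((Scheme.Modules.pullback p).obj F).presheaf.stalk z) :=
      Module.compHom _ (stalkRingHom q z)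
    haveI : IsScalarTower B U (((Scheme.Modules.pullback p).obj F).presheaf.stalk z) :=
      ⟨fun a b m => mul_smul (stalkRingHom q z a) b m⟩
    exact Module.Flat.of_linearEquiv ((Fdesc.PullbackStalk.stalkPullbackEquiv p F z).restrictScalars B)
  refine k U ?_
  let γ : Spec (CommRingCat.of U) ⟶ Spec (CommRingCat.of (C ⊗[A] B)) :=
    Spec.map (CommRingCat.ofHom (algebraMap (C ⊗[A] B) U))
  have hγ : γ ≫ specTensorTo f B (p z) h = P.fromSpecStalk z := by
    apply pullback.hom_ext
    · rw [Category.assoc, specTensorTo_fst]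
      change Spec.map _ ≫ Spec.map _ ≫ _ = _
      have h7 : inl (R := A) B (p z) ≫ CommRingCat.ofHom (algebraMap (C ⊗[A] B) U) = p.stalkMap z :=
        CommRingCat.hom_ext (IsScalarTower.algebraMap_eq C (C ⊗[A] B) U).symm
      rw [← Spec.map_comp_assoc, h7]
      exact Scheme.SpecMap_stalkMap_fromSpecStalk p
    · rw [Category.assoc, specTensorTo_snd]
      change Spec.map _ ≫ Spec.map _ = _
      have h7 : inr (R := A) B (p z) ≫ CommRingCat.ofHom (algebraMap (C ⊗[A] B) U) =
          CommRingCat.ofHom (stalkRingHom q z) :=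
        CommRingCat.hom_ext (IsScalarTower.algebraMap_eq B (C ⊗[A] B) U).symm
      rw [← Spec.map_comp, h7]
      exact (fromSpecStalk_comp q z).symm
  have h8 : γ (closedPoint U) = Q := by
    apply (specTensorTo f B (p z) h).injective
    rw [hQ, ← Scheme.Hom.comp_apply, hγ]
    exact Scheme.fromSpecStalk_closedPoint
  exact congrArg PrimeSpectrum.asIdeal h8

theorem van (z : ↥(pullback f (Spec.map (CommRingCat.ofHom (algebraMap A B)))))
    (hfl : FlatMod.IsFlatOverAt (pullback.snd f (Spec.map (CommRingCat.ofHom (algebraMap A B))))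
      ((Scheme.Modules.pullback (pullback.fst f (Spec.map (CommRingCat.ofHom (algebraMap A B))))).obj F) z)
    (x : X) (hx : pullback.fst f (Spec.map (CommRingCat.ofHom (algebraMap A B))) z = x)
    [Algebra A (X.presheaf.stalk x)] (h : algebraMap A (X.presheaf.stalk x) = stalkRingHom f x)
    [Module A (F.presheaf.stalk x)] [IsScalarTower A (X.presheaf.stalk x) (F.presheaf.stalk x)]
    (V : Ideal A) (w : F.presheaf.stalk x ⊗[A] V) (hw : mulV V (F.presheaf.stalk x) w = 0)
    (Q : Spec (CommRingCat.of (X.presheaf.stalk x ⊗[A] B))) (hQ : specTensorTo f B x h Q = z) :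
    letI : Algebra B (X.presheaf.stalk x ⊗[A] B) := Algebra.TensorProduct.rightAlgebra
    ∃ r : X.presheaf.stalk x ⊗[A] B, r ∉ Q.asIdeal ∧
      r • (mp B (inc (X.presheaf.stalk x) (X.presheaf.stalk x ⊗[A] B) (F.presheaf.stalk x)) (incV A B V) w) = 0 := by
  letI : Algebra B (X.presheaf.stalk x ⊗[A] B) := Algebra.TensorProduct.rightAlgebra
  refine with_U f F z hfl x hx h Q hQ _ ?_
  intro U _ _ _ _ _ _ _ _ _ _ _ _ hU
  exact vanAt_of_flat (U := U) (F.presheaf.stalk x) V w hw Q.asIdeal hU

/-- For `B` a quotient of the base: `B ⊗ F_x` is flat over `B` if the restriction of `F` is. -/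
theorem flat_quotient (hAB : Function.Surjective (algebraMap A B)) [IsLocalRing B]
    (x : X) [Algebra A (X.presheaf.stalk x)] (h : algebraMap A (X.presheaf.stalk x) = stalkRingHom f x)
    [Module A (F.presheaf.stalk x)] [IsScalarTower A (X.presheaf.stalk x) (F.presheaf.stalk x)]
    (hx : (maximalIdeal B).comap (algebraMap A B) = (maximalIdeal (X.presheaf.stalk x)).comap
      (algebraMap A (X.presheaf.stalk x)))
    (hfl : ∀ z : ↥(pullback f (Spec.map (CommRingCat.ofHom (algebraMap A B)))),
      pullback.fst f (Spec.map (CommRingCat.ofHom (algebraMap A B))) z = x →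
      FlatMod.IsFlatOverAt (pullback.snd f (Spec.map (CommRingCat.ofHom (algebraMap A B))))
        ((Scheme.Modules.pullback (pullback.fst f (Spec.map (CommRingCat.ofHom (algebraMap A B))))).obj F) z) :
    Module.Flat B (B ⊗[A] F.presheaf.stalk x) := by
  let C := X.presheaf.stalk x
  letI : Algebra B (C ⊗[A] B) := Algebra.TensorProduct.rightAlgebra
  have hsurj : Function.Surjective (algebraMap C (C ⊗[A] B)) := by
    intro t
    induction t with
    | zero => exact ⟨0, map_zero _⟩
    | add a b ha hb =>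
      obtain ⟨a, rfl⟩ := ha
      obtain ⟨b, rfl⟩ := hb
      exact ⟨a + b, map_add _ _ _⟩
    | tmul c b =>
      obtain ⟨a, rfl⟩ := hAB b
      refine ⟨a • c, ?_⟩
      change (a • c) ⊗ₜ[A] (1 : B) = c ⊗ₜ[A] algebraMap A B a
      rw [TensorProduct.smul_tmul, Algebra.smul_def, mul_one]
  haveI hnt : Nontrivial (C ⊗[A] B) := by
    let κ := C ⧸ maximalIdeal C
    haveI : Nontrivial κ := Ideal.Quotient.nontrivial_iff.mpr (IsLocalRing.maximalIdeal.isMaximal C).ne_top
    let g : A →+* κ := (Ideal.Quotient.mk (maximalIdeal C)).comp (algebraMap A C)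
    have hg : RingHom.ker (algebraMap A B) ≤ RingHom.ker g := by
      intro a ha
      rw [RingHom.mem_ker] at ha ⊢
      have h1 : a ∈ (maximalIdeal B).comap (algebraMap A B) := by
        rw [Ideal.mem_comap, ha]
        exact Ideal.zero_mem _
      rw [hx] at h1
      exact Ideal.Quotient.eq_zero_iff_mem.mpr h1
    let φ : B →+* κ := RingHom.liftOfSurjective (algebraMap A B) hAB ⟨g, hg⟩
    have hφ : φ.comp (algebraMap A B) = g := RingHom.liftOfRightInverse_comp _ _ _ ⟨g, hg⟩
    letI : Algebra A κ := g.toAlgebra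
    let φ' : B →ₐ[A] κ := { φ with commutes' := fun a => RingHom.congr_fun hφ a }
    let ψ : C →ₐ[A] κ := { Ideal.Quotient.mk (maximalIdeal C) with commutes' := fun a => rfl }
    exact RingHom.domain_nontrivial (Algebra.TensorProduct.productMap ψ φ').toRingHom
  haveI : IsLocalRing (C ⊗[A] B) := IsLocalRing.of_surjective' _ hsurj
  let Q : Spec (CommRingCat.of (C ⊗[A] B)) := closedPoint (C ⊗[A] B)
  have hQ1 : Q.asIdeal.comap (Algebra.TensorProduct.includeLeftRingHom (R := A)
      (A := X.presheaf.stalk x) (B := B)) = maximalIdeal _ := by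
    have h1 : (Ideal.comap (algebraMap C (C ⊗[A] B)) (maximalIdeal (C ⊗[A] B))).IsMaximal :=
      Ideal.comap_isMaximal_of_surjective _ hsurj
    exact IsLocalRing.eq_maximalIdeal h1
  have e1 := fst_specTensorTo_apply f B x h Q hQ1
  refine with_U f F _ (hfl _ e1) x e1 h Q rfl _ ?_
  intro U _ _ _ _ _ _ _ _ _ _ _ _ hU
  haveI : IsLocalHom (algebraMap (C ⊗[A] B) U) :=
    ((IsLocalRing.local_hom_TFAE (algebraMap (C ⊗[A] B) U)).out 0 4).mpr hU
  haveI : Module.FaithfullyFlat (C ⊗[A] B) U := Module.FaithfullyFlat.of_flat_of_isLocalHom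
  have h2 : Module.Flat B (U ⊗[C ⊗[A] B] ((C ⊗[A] B) ⊗[C] F.presheaf.stalk x)) :=
    Module.Flat.of_linearEquiv
      ((AlgebraTensorModule.cancelBaseChange C (C ⊗[A] B) U U (F.presheaf.stalk x)).restrictScalars B)
  haveI h3 : Module.Flat B ((C ⊗[A] B) ⊗[C] F.presheaf.stalk x) := Fdesc.FlatAlg.flat_of_flat_tensor (S' := U) h2
  exact Module.Flat.of_linearEquiv (Algebra.IsPushout.cancelBaseChange A B C (C ⊗[A] B) (F.presheaf.stalk x)).symm

end van

open K131.SocFlat K131.ArtAt

theorem isFlatOverAt_of_family {A : Type u} [CommRing A] [IsArtinianRing A] [IsLocalRing A] {X : Scheme.{u}}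
    (f : X ⟶ Spec (CommRingCat.of A)) [LocallyOfFiniteType f] (F : X.Modules) (hF : Coh.IsCoh F) (x : X)
    {ι : Type u} (B : ι → Type u) [∀ i, CommRing (B i)] [∀ i, IsLocalRing (B i)] [∀ i, Algebra A (B i)]
    (hinj : ∀ a : A, (∀ i, algebraMap A (B i) a = 0) → a = 0)
    (hflat : ∀ (i : ι) (z : ↥(pullback f (Spec.map (CommRingCat.ofHom (algebraMap A (B i)))))),
      pullback.fst f (Spec.map (CommRingCat.ofHom (algebraMap A (B i)))) z = x →
      pullback.snd f (Spec.map (CommRingCat.ofHom (algebraMap A (B i)))) z = closedPoint (B i) →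
      FlatMod.IsFlatOverAt (pullback.snd f (Spec.map (CommRingCat.ofHom (algebraMap A (B i)))))
        ((Scheme.Modules.pullback (pullback.fst f (Spec.map (CommRingCat.ofHom (algebraMap A (B i)))))).obj F) z) :
    FlatMod.IsFlatOverAt f F x := by
  haveI : IsLocallyNoetherian X := LocallyOfFiniteType.isLocallyNoetherian f
  letI i1 : Algebra A (X.presheaf.stalk x) := (stalkRingHom f x).toAlgebra
  letI i2 : Module A (F.presheaf.stalk x) := Module.compHom _ (stalkRingHom f x)
  haveI : IsScalarTower A (X.presheaf.stalk x) (F.presheaf.stalk x) := ⟨fun a b m => mul_smul (stalkRingHom f x a) b m⟩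
  haveI : Module.Finite (X.presheaf.stalk x) (F.presheaf.stalk x) := CycB.CohStalk.finite_stalk F hF x
  rw [isFlatOverAt_iff]
  letI i3 : ∀ i, Algebra (B i) (X.presheaf.stalk x ⊗[A] B i) := fun i => Algebra.TensorProduct.rightAlgebra
  refine flat_of_family (C := X.presheaf.stalk x) (F.presheaf.stalk x) B (fun i => X.presheaf.stalk x ⊗[A] B i) hinj ?_
  intro i w hw Q hQ h1 h2
  let q : Spec (CommRingCat.of (X.presheaf.stalk x ⊗[A] B i)) := ⟨Q, hQ⟩
  have e1 := fst_specTensorTo_apply f (B i) x rfl q h1
  refine van f F (specTensorTo f (B i) x rfl q) (hflat i _ e1 ?_) x e1 rfl (soc A) w hw q rfl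
  rw [← Scheme.Hom.comp_apply, specTensorTo_snd]
  exact PrimeSpectrum.ext h2

end K131.ArtSch
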