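import Groth.Agent.Ega43.FibSch1
import Groth.Agent.Ega43.CMOpen
import Groth.Agent.S0386

/-!
# Openness of `flat and the local ring of the fibre has P`

`isOpen_flat_and`: for `f` locally of finite presentation, the set of points where `f` is flat and the
local ring of the fibre has property `P` is open, as soon as this holds for flat algebras of finite
presentation. `nonempty_fiberStalk_equiv`: local rings of fibres do not change on restricting to opens.
-/

set_option autoImplicit false

open CategoryTheory AlgebraicGeometry IsLocalRing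

namespace K131.FibOpenRing

universe u

open Groth.Agent.Flat2D.FiberStalk Groth.Agent.Ega43.FibSch1 Groth.Agent.Ega43.CMOpen

variable {U X Y : Scheme.{u}}

/-- The local ring of the fibre of `j ≫ f` at `u` is that of `f` at `j u`, for `j` an open immersion. -/
theorem nonempty_fiberStalk_equiv (j : U ⟶ X) [IsOpenImmersion j] (f : X ⟶ Y) (u : U) :
    Nonempty (((j ≫ f).fiber ((j ≫ f) u)).presheaf.stalk ((j ≫ f).asFiber u) ≃+*
      (f.fiber (f (j u))).presheaf.stalk (f.asFiber (j u))) := by
  obtain ⟨e1⟩ := nonempty_asFiber_stalkEquiv (j ≫ f) u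
  obtain ⟨e2⟩ := nonempty_asFiber_stalkEquiv f (j u)
  let e := (asIso (j.stalkMap u)).commRingCatIsoToRingEquiv
  have h : ((j ≫ f).stalkMap u).hom = (e : _ →+* _).comp (f.stalkMap (j u)).hom :=
    congrArg CommRingCat.Hom.hom (Scheme.Hom.stalkMap_comp j f u)
  have h2 : fibreIdeal (j ≫ f) u = (fibreIdeal f (j u)).map (e : _ →+* _) := by
    rw [fibreIdeal_def, fibreIdeal_def, h]
    exact (Ideal.map_map _ _).symm
  exact ⟨e1.symm.trans ((Ideal.quotientEquiv _ _ e h2).symm.trans e2)⟩

/-- Openness of the locus where `f` is flat and the local ring of the fibre has a property `P`, from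
the affine flat case. -/
theorem isOpen_flat_and (P : ∀ (R : Type u) [CommRing R], Prop)
    (hP : ∀ (R S : Type u) [CommRing R] [CommRing S], (R ≃+* S) → P R → P S)
    (H : ∀ (A B : Type u) [CommRing A] [CommRing B] [Algebra A B] [Algebra.FinitePresentation A B]
      [Module.Flat A B], IsOpen {q : PrimeSpectrum B | P (EGA4.FibLocRing A B q.asIdeal)})
    (f : X ⟶ Y) [LocallyOfFinitePresentation f] :
    IsOpen {x : X | (f.stalkMap x).hom.Flat ∧
      P ((f.fiber (f.base x)).presheaf.stalk (f.asFiber x))} := by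
  let W : X.Opens := ⟨{x : X | (f.stalkMap x).hom.Flat}, Groth.Agent.S0386.result f⟩
  have hfl : Flat (W.ι ≫ f) := by
    rw [Flat.iff_flat_stalkMap]
    intro u
    rw [flat_stalkMap_comp_iff]
    exact u.2
  have h := isOpen_of_affine (W.ι ≫ f) P hP H
  have h2 := W.ι.isOpenEmbedding.isOpenMap _ h
  convert h2 using 1
  ext x
  constructor
  · rintro ⟨h1, h2⟩
    refine ⟨⟨x, h1⟩, ?_, rfl⟩
    obtain ⟨e⟩ := nonempty_fiberStalk_equiv W.ι f ⟨x, h1⟩
    exact hP _ _ e.symm h2
  · rintro ⟨u, hu, rfl⟩
    obtain ⟨e⟩ := nonempty_fiberStalk_equiv W.ι f u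
    exact ⟨u.2, hP _ _ e hu⟩

end K131.FibOpenRing
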