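import Groth.Agent.EGA43.K131.FibNum
import Groth.Agent.EGA43.K131.FibOpenRing

/-!
# Openness of `flat and fibre of codepth at most n`
-/

set_option autoImplicit false
universe u

open CategoryTheory AlgebraicGeometry TopologicalSpace

namespace K131.CodepthRing

open Groth.Agent Groth.Agent.Ega43 K131.FibOpenMod K131.FibNum

/-- Codepth at most `n` for a ring. -/
def RingCodepthLE (n : ℕ) (R : Type u) [CommRing R] : Prop := ∀ [IsLocalRing R],
  ringKrullDim R ≤ ((LocCoh.depth R R : ℕ∞) : WithBot ℕ∞) + n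

theorem ringCodepthLE_of_equiv (n : ℕ) {R S : Type u} [CommRing R] [CommRing S] (e : R ≃+* S)
    (h : RingCodepthLE n R) : RingCodepthLE n S := by
  intro _
  have : IsLocalRing R := e.symm.isLocalRing
  have h1 := h
  rw [ringKrullDim_eq_of_ringEquiv e,
    Ega4A.DepthBasic.depth_congr_of_surjective (e : R →+* S) e.surjective R S e.toAddEquiv
      (fun r m => e.map_mul r m)] at h1
  exact h1

attribute [local instance] FibCM.isLocalRing_fib in
theorem isOpen_affine (n : ℕ) (A B : Type u) [CommRing A] [CommRing B] [Algebra A B]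
    [Algebra.FinitePresentation A B] [Module.Flat A B] :
    IsOpen {q : PrimeSpectrum B | RingCodepthLE n (EGA4.FibLocRing A B q.asIdeal)} := by
  have h := affOpen_codepth.{u} n A B B
  convert h using 1
  ext q
  have key : RingCodepthLE n (EGA4.FibLocRing A B q.asIdeal) ↔
      Module.supportDim (EGA4.FibLocRing A B q.asIdeal) (EGA4.FibLocMod A B q.asIdeal B) ≤
        ((LocCoh.depth (EGA4.FibLocRing A B q.asIdeal) (EGA4.FibLocMod A B q.asIdeal B) : ℕ∞) :
          WithBot ℕ∞) + n := by
    rw [Module.supportDim_eq_of_equiv (FibAff.fibSelf q.asIdeal),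
      Module.supportDim_self_eq_ringKrullDim,
      Ega4B.DepthBasic.depth_congr (FibAff.fibSelf (A := A) q.asIdeal)]
    exact ⟨fun h => h, fun h _ => h⟩
  obtain ⟨m, hm⟩ : ∃ m : ℕ, tr A q.asIdeal = m := by
    obtain ⟨t, ht, htQ⟩ := Ega4C.FibreTower.exists_prime_fibre
      (q.asIdeal.comap (algebraMap A B)) q.asIdeal rfl
    obtain ⟨r, hr, -⟩ := tr_ctr (q.asIdeal.comap (algebraMap A B)) t
    rw [htQ] at hr
    exact ⟨r, hr⟩
  rw [Set.mem_ofPred_eq, Set.mem_ofPred_eq, key]
  exact ⟨fun h _ _ => h, fun h => h m hm⟩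

theorem isOpen_flat_and_codepth {X Y : Scheme.{u}} (f : X ⟶ Y) [LocallyOfFinitePresentation f]
    (n : ℕ) :
    IsOpen {x : X | (f.stalkMap x).hom.Flat ∧
      ringKrullDim ((f.fiber (f.base x)).presheaf.stalk (f.asFiber x)) ≤
        ((LocCoh.depth ((f.fiber (f.base x)).presheaf.stalk (f.asFiber x)) ((f.fiber (f.base x)).presheaf.stalk (f.asFiber x)) : ℕ∞) : WithBot ℕ∞) + n} := by
  convert K131.FibOpenRing.isOpen_flat_and (fun R _ => RingCodepthLE n R)
    (fun _ _ _ _ e h => ringCodepthLE_of_equiv n e h) (isOpen_affine n) f using 1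
  ext x
  exact and_congr_right fun _ => ⟨fun h _ => h, fun h => h⟩

end K131.CodepthRing
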