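import Groth.Agent.EGA43.K131.FibOpenMod
import Groth.Agent.Ega43.FibAff

/-!
# Openness of the codepth and rectified depth conditions on the fibres, affine case

* `tr_comap`: the residual transcendence degree does not change along surjections.
* `dim_add_tr`: for a prime of a polynomial ring in `N` variables, dimension of the local ring of the
  fibre plus residual transcendence degree is `N`.
* `affOpen_codepth`, `affOpen_rect`: the affine statements for codepth `≤ k` and for rectified depth
  `≥ n`.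
-/

set_option autoImplicit false
universe u

open TensorProduct EGA4 Function CategoryTheory

namespace K131.FibNum

open Groth.Agent Groth.Agent.Ega43 Groth.Agent.Ega43.FibTransfer Groth.Agent.Ega43.FibCM
  Groth.Agent.Ega43.FibSpec Groth.Agent.Ega43.FibChev Groth.Agent.Ega43.FibPd
  Groth.Agent.CycB.TrdegAlg K131.FibOpenMod

attribute [local instance] FibCM.isLocalRing_fib

section Tr

variable {A B : Type u} [CommRing A] [CommRing B] [Algebra A B]

/-- The residual transcendence degree computed with models of the residue fields. -/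
theorem tr_eq_trd (q : Ideal B) {K L : Type u} [Field K] [Field L] (ψA : A →+* K)
    (ψB : B →+* L) (θ : K →+* L) (comm : θ.comp ψA = ψB.comp (algebraMap A B)) (hA : FracGen ψA)
    (hB : FracGen ψB) (hq : q = RingHom.ker ψB) : tr A q = trd θ := by
  refine (trd_eq_trd_quotientMap (algebraMap A B) ψA ψB θ comm hA hB _ ?_ q hq le_rfl).symm
  subst hq
  ext a
  rw [Ideal.mem_comap, RingHom.mem_ker, RingHom.mem_ker, ← RingHom.comp_apply, ← comm,
    RingHom.comp_apply]
  exact map_eq_zero θ

theorem fracGen_residueField (p : Ideal A) [p.IsPrime] :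
    FracGen (algebraMap A p.ResidueField) := by
  intro z
  obtain ⟨s, rfl⟩ := IsLocalRing.residue_surjective z
  obtain ⟨⟨a, b⟩, hab⟩ := IsLocalization.surj p.primeCompl s
  refine ⟨a, b, ?_, ?_⟩
  · intro h
    exact b.2 (p.algebraMap_residueField_eq_zero.mp h)
  · exact (map_mul (IsLocalRing.residue _) _ _).symm.trans
      (congrArg (IsLocalRing.residue (Localization.AtPrime p)) hab)

theorem fracGen_comp_surjective {C L : Type u} [CommRing C] [Field L] (g : C →+* B)
    (hg : Surjective g) {ψ : B →+* L} (h : FracGen ψ) : FracGen (ψ.comp g) := by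
  intro z
  obtain ⟨a, b, hb, hab⟩ := h z
  obtain ⟨a, rfl⟩ := hg a
  obtain ⟨b, rfl⟩ := hg b
  exact ⟨a, b, hb, hab⟩

variable {P : Type u} [CommRing P] [Algebra A P] [Algebra P B] [IsScalarTower A P B]

theorem tr_comap (hs : Surjective (algebraMap P B)) (q : Ideal B) [q.IsPrime] :
    tr A (q.comap (algebraMap P B)) = tr A q := by
  let p := q.comap (algebraMap A B)
  let θ : p.ResidueField →+* q.ResidueField := Ideal.ResidueField.map p q (algebraMap A B) rfl
  have hθ : θ.comp (algebraMap A p.ResidueField) =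
      (algebraMap B q.ResidueField).comp (algebraMap A B) := by
    ext a
    exact Ideal.ResidueField.map_algebraMap _ _ _ _ a
  rw [tr_eq_trd q (algebraMap A p.ResidueField) (algebraMap B q.ResidueField) θ hθ
    (fracGen_residueField p) (fracGen_residueField q) (Ideal.ker_algebraMap_residueField q).symm]
  refine tr_eq_trd _ (algebraMap A p.ResidueField)
    ((algebraMap B q.ResidueField).comp (algebraMap P B)) θ ?_
    (fracGen_residueField p) (fracGen_comp_surjective _ hs (fracGen_residueField q)) ?_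
  · rw [hθ, RingHom.comp_assoc, ← IsScalarTower.algebraMap_eq A P B]
  · rw [← RingHom.comap_ker, Ideal.ker_algebraMap_residueField]

theorem fib_frac (p : Ideal A) [p.IsPrime] (x : p.Fiber B) : ∃ (b : B) (a : A), a ∉ p ∧
    x * ((1 : p.ResidueField) ⊗ₜ[A] algebraMap A B a) = (1 : p.ResidueField) ⊗ₜ[A] b := by
  have hm : ∀ b b' : B, (1 : p.ResidueField) ⊗ₜ[A] (b * b') =
      ((1 : p.ResidueField) ⊗ₜ[A] b) * ((1 : p.ResidueField) ⊗ₜ[A] b') := by
    intro b b'
    rw [Algebra.TensorProduct.tmul_mul_tmul, mul_one]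
  induction x using TensorProduct.induction_on with
  | zero => exact ⟨0, 1, p.ne_top_iff_one.mp (Ideal.IsPrime.ne_top ‹_›), by simp⟩
  | tmul k b =>
    obtain ⟨a, s, hs, has⟩ := fracGen_residueField p k
    refine ⟨algebraMap A B a * b, s, fun h => hs (p.algebraMap_residueField_eq_zero.mpr h), ?_⟩
    rw [Algebra.TensorProduct.tmul_mul_tmul, mul_one, mul_comm b, ← Algebra.smul_def,
      ← Algebra.smul_def, ← TensorProduct.smul_tmul, ← TensorProduct.smul_tmul, Algebra.smul_def,
      Algebra.smul_def, mul_comm, has, mul_one]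
  | add x y hx hy =>
    obtain ⟨b, a, ha, h⟩ := hx
    obtain ⟨b', a', ha', h'⟩ := hy
    refine ⟨b * algebraMap A B a' + b' * algebraMap A B a, a * a',
      fun h => (Ideal.IsPrime.mem_or_mem ‹_› h).elim ha ha', ?_⟩
    rw [map_mul, TensorProduct.tmul_add, hm, hm, hm, ← h, ← h']
    ring

/-- The residual transcendence degree of a prime of a fibre ring. -/
theorem tr_ker (p : Ideal A) [p.IsPrime] {T : Type u} [CommRing T] [IsDomain T]
    [Algebra p.ResidueField T] (π : p.Fiber B →ₐ[p.ResidueField] T) (hπ : Surjective π) :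
    tr A ((RingHom.ker π.toRingHom).comap
      (Algebra.TensorProduct.includeRight : B →ₐ[A] p.Fiber B)) = Algebra.trdeg p.ResidueField T := by
  let L := FractionRing T
  let ψB : B →+* L := (algebraMap T L).comp (π.toRingHom.comp
    (Algebra.TensorProduct.includeRight : B →ₐ[A] p.Fiber B).toRingHom)
  have hψ : ∀ b, ψB b = algebraMap T L (π ((1 : p.ResidueField) ⊗ₜ[A] b)) := fun b => rfl
  let θ : p.ResidueField →+* L := (algebraMap T L).comp (algebraMap p.ResidueField T)
  have hcomm : θ.comp (algebraMap A p.ResidueField) = ψB.comp (algebraMap A B) := by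
    ext a
    change algebraMap T L (algebraMap p.ResidueField T (algebraMap A p.ResidueField a)) =
      ψB (algebraMap A B a)
    rw [hψ, ← π.commutes]
    congr 2
    change algebraMap A p.ResidueField a ⊗ₜ[A] (1 : B) = _
    rw [Algebra.algebraMap_eq_smul_one, Algebra.algebraMap_eq_smul_one, TensorProduct.smul_tmul]
  have hm : ∀ b b' : B, (1 : p.ResidueField) ⊗ₜ[A] (b * b') =
      ((1 : p.ResidueField) ⊗ₜ[A] b) * ((1 : p.ResidueField) ⊗ₜ[A] b') := by
    intro b b'
    rw [Algebra.TensorProduct.tmul_mul_tmul, mul_one]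
  have hgen : FracGen ψB := by
    intro z
    obtain ⟨⟨x, s⟩, hs⟩ := IsLocalization.surj (nonZeroDivisors T) z
    obtain ⟨x, rfl⟩ := hπ x
    obtain ⟨s, hs0⟩ := s
    obtain ⟨s, rfl⟩ := hπ s
    replace hs : z * algebraMap T L (π s) = algebraMap T L (π x) := hs
    obtain ⟨b, a, ha, hx⟩ := fib_frac p x
    obtain ⟨b', a', ha', hx'⟩ := fib_frac p s
    have hu : ∀ a : A, a ∉ p → algebraMap T L (π
        ((1 : p.ResidueField) ⊗ₜ[A] algebraMap A B a)) ≠ 0 := by
      intro a ha h0
      have : (ψB.comp (algebraMap A B)) a = 0 := h0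
      rw [← hcomm, RingHom.comp_apply] at this
      exact ha (p.algebraMap_residueField_eq_zero.mp ((map_eq_zero θ).mp this))
    refine ⟨b * algebraMap A B a', b' * algebraMap A B a, ?_, ?_⟩
    · rw [hψ, hm, ← hx', map_mul, map_mul, map_mul, map_mul]
      refine mul_ne_zero (mul_ne_zero ?_ (hu a' ha')) (hu a ha)
      intro h0
      rw [FaithfulSMul.algebraMap_eq_zero_iff] at h0
      exact nonZeroDivisors.ne_zero hs0 h0
    · rw [hψ, hψ, hm, hm, ← hx', ← hx]
      simp only [map_mul]
      rw [← hs]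
      ring
  rw [tr_eq_trd _ (algebraMap A p.ResidueField) ψB θ hcomm (fracGen_residueField p) hgen (by
    ext b
    rw [Ideal.mem_comap, RingHom.mem_ker, RingHom.mem_ker, hψ,
      FaithfulSMul.algebraMap_eq_zero_iff]
    rfl)]
  have h2 : θ = algebraMap p.ResidueField L := by
    rw [IsScalarTower.algebraMap_eq p.ResidueField T L]
  rw [h2, trd_algebraMap]
  exact trdeg_fractionField p.ResidueField T p.ResidueField L

theorem tr_ctr [Algebra.FiniteType A B] (p : Ideal A) [p.IsPrime] (t : Ideal (p.Fiber B)) [t.IsPrime] :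
    ∃ n : ℕ, tr A (Ega4C.FibreTower.ctr p t) = n ∧ ringKrullDim (p.Fiber B ⧸ t) = n := by
  obtain ⟨n, hn, hn'⟩ := Ega4B.DimFT.exists_dim p.ResidueField (p.Fiber B ⧸ t)
  refine ⟨n, ?_, hn'⟩
  have h := tr_ker (T := p.Fiber B ⧸ t) p (Ideal.Quotient.mkₐ p.ResidueField t)
    Ideal.Quotient.mk_surjective
  have hk : RingHom.ker (Ideal.Quotient.mkₐ p.ResidueField t).toRingHom = t := Ideal.mk_ker
  rw [hk] at h
  exact h.trans hn

end Tr

section Poly

variable (A : Type u) [CommRing A] (N : ℕ)

/-- Dimension of the local ring of the fibre plus residual transcendence degree. -/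
theorem dim_add_tr (Q : PrimeSpectrum (MvPolynomial (Fin N) A)) :
    ∃ h r : ℕ, ringKrullDim (FibLocRing A (MvPolynomial (Fin N) A) Q.asIdeal) = h ∧
      tr A Q.asIdeal = r ∧ h + r = N := by
  obtain ⟨t, ht, htQ⟩ := Ega4C.FibreTower.exists_prime_fibre
    (Q.asIdeal.comap (algebraMap A (MvPolynomial (Fin N) A))) Q.asIdeal rfl
  obtain ⟨r, hr, hr'⟩ := tr_ctr (Q.asIdeal.comap (algebraMap A (MvPolynomial (Fin N) A))) t
  have h1 := FibChev.height_add_dim (Q.asIdeal.comap (algebraMap A (MvPolynomial (Fin N) A))) t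
  rw [hr'] at h1
  have h1' : t.height + r = N := by exact_mod_cast h1
  obtain ⟨h, hh⟩ : ∃ h : ℕ, t.height = h := by
    refine ⟨t.height.toNat, (ENat.natCast_toNat ?_).symm⟩
    intro h2
    rw [h2, top_add] at h1'
    exact absurd h1' (ENat.top_ne_natCast N)
  rw [hh] at h1'
  refine ⟨h, r, ?_, ?_, by exact_mod_cast h1'⟩
  · rw [← dim_fibLocRing_congr htQ, ringKrullDim_fibLocRing, hh]
    rfl
  · rw [htQ] at hr
    exact hr

variable (M : Type u) [AddCommGroup M] [Module (MvPolynomial (Fin N) A) M]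

/-- `dim ≤ depth + n` for the fibre module. -/
def GoodN (n : ℕ) (Q : PrimeSpectrum (MvPolynomial (Fin N) A)) : Prop :=
  Module.supportDim (FibLocRing A (MvPolynomial (Fin N) A) Q.asIdeal)
    (FibLocMod A (MvPolynomial (Fin N) A) Q.asIdeal M) ≤
  ((LocCoh.depth (FibLocRing A (MvPolynomial (Fin N) A) Q.asIdeal)
    (FibLocMod A (MvPolynomial (Fin N) A) Q.asIdeal M) : ℕ∞) : WithBot ℕ∞) + n

/-- `n ≤ depth + tr` for the fibre module. -/
def Rect (n : ℕ) (Q : PrimeSpectrum (MvPolynomial (Fin N) A)) : Prop :=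
  ∀ r : ℕ, tr A Q.asIdeal = r → (n : WithBot ℕ∞) ≤
  ((LocCoh.depth (FibLocRing A (MvPolynomial (Fin N) A) Q.asIdeal)
    (FibLocMod A (MvPolynomial (Fin N) A) Q.asIdeal M) : ℕ∞) : WithBot ℕ∞) + r

variable [Module.Finite (MvPolynomial (Fin N) A) M]

theorem goodN_iff (k : ℕ) (Q : PrimeSpectrum (MvPolynomial (Fin N) A)) : GoodN A N M k Q ↔
    ∃ m : ℕ, HasProjectiveDimensionLE (ModuleCat.of
        (FibLocRing A (MvPolynomial (Fin N) A) Q.asIdeal)
        (FibLocMod A (MvPolynomial (Fin N) A) Q.asIdeal M)) (m + k) ∧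
      (m = 0 ∨ ∃ n, m = n + 1 ∧ Q ∉ E (Module.support (MvPolynomial (Fin N) A) M) n) := by
  have hreg := isRegularLocalRing_fib (A := A) (N := N) Q.asIdeal
  have h0 := Ega4B.Codepth.supportDim_le_depth_add_iff
    (B := FibLocRing A (MvPolynomial (Fin N) A) Q.asIdeal)
    (N := FibLocMod A (MvPolynomial (Fin N) A) Q.asIdeal M) k
  refine Iff.trans h0 ?_
  refine exists_congr fun m ↦ ?_
  rw [projectiveDimension_le_iff, forall_height_iff]
  refine and_congr Iff.rfl ?_
  rcases m with _ | n
  · simp only [true_or, iff_true]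
    intro Q' _ _ _
    exact_mod_cast ringKrullDim_nonneg_of_nontrivial
  · simp only [Nat.add_eq_zero_iff, one_ne_zero, and_false, Nat.add_right_cancel_iff, false_or]
    constructor
    · intro h
      refine ⟨n, rfl, ?_⟩
      rintro ⟨Q', hQ', hle, hc, hd⟩
      exact (not_le_iff _ _).mpr (h Q' hQ' hle hc) hd
    · rintro ⟨n', rfl, hn⟩ Q' hQ' hle hc
      rw [← not_le_iff]
      intro h
      exact hn ⟨Q', hQ', hle, hc, h⟩

theorem isOpen_goodN [Module A M] [IsScalarTower A (MvPolynomial (Fin N) A) M]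
    [Module.FinitePresentation (MvPolynomial (Fin N) A) M] [Module.Flat A M]
    (hK : KerFP A (MvPolynomial (Fin N) A)) (k : ℕ) :
    IsOpen {Q : PrimeSpectrum (MvPolynomial (Fin N) A) | GoodN A N M k Q} := by
  have h : {Q : PrimeSpectrum (MvPolynomial (Fin N) A) | GoodN A N M k Q} =
      ⋃ m : ℕ, {Q | HasProjectiveDimensionLE (ModuleCat.of
        (FibLocRing A (MvPolynomial (Fin N) A) Q.asIdeal)
        (FibLocMod A (MvPolynomial (Fin N) A) Q.asIdeal M)) (m + k)} ∩
        {Q | m = 0 ∨ ∃ n, m = n + 1 ∧ Q ∉ E (Module.support (MvPolynomial (Fin N) A) M) n} := by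
    ext Q
    simp only [Set.mem_ofPred_eq, Set.mem_iUnion, Set.mem_inter_iff, goodN_iff]
  rw [h]
  refine isOpen_iUnion fun m ↦ (isOpen_pd A _ hK (m + k) M).inter ?_
  rcases m with _ | n
  · simp
  · have : {Q : PrimeSpectrum (MvPolynomial (Fin N) A) | n + 1 = 0 ∨ ∃ n', n + 1 = n' + 1 ∧
        Q ∉ E (Module.support (MvPolynomial (Fin N) A) M) n'} =
        (E (Module.support (MvPolynomial (Fin N) A) M) n)ᶜ := by
      ext Q
      simp only [Set.mem_ofPred_eq, Set.mem_compl_iff]
      constructor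
      · rintro (h | ⟨n', hn', h⟩)
        · omega
        · obtain rfl : n = n' := by omega
          exact h
      · intro h
        exact Or.inr ⟨n, rfl, h⟩
    rw [this, isOpen_compl_iff]
    refine isClosed_E _ ?_ _
    exact Module.isClosed_support

theorem rect_iff (n : ℕ) (Q : PrimeSpectrum (MvPolynomial (Fin N) A)) : Rect A N M n Q ↔
    Q ∉ Module.support (MvPolynomial (Fin N) A) M ∨
      (n ≤ N ∧ HasProjectiveDimensionLE (ModuleCat.of
        (FibLocRing A (MvPolynomial (Fin N) A) Q.asIdeal)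
        (FibLocMod A (MvPolynomial (Fin N) A) Q.asIdeal M)) (N - n)) := by
  have hreg := isRegularLocalRing_fib (A := A) (N := N) Q.asIdeal
  by_cases hQ : Q ∈ Module.support (MvPolynomial (Fin N) A) M
  · have hnt := nontrivial_fib A N M Q hQ
    obtain ⟨e, d, h, hpd, hdep, hdim, hsum⟩ := exists_data
      (B := FibLocRing A (MvPolynomial (Fin N) A) Q.asIdeal)
      (FibLocMod A (MvPolynomial (Fin N) A) Q.asIdeal M)
    obtain ⟨h', r, hh', hr, hN⟩ := dim_add_tr A N Q
    have hhh : h' = h := by
      rw [hdim] at hh'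
      exact_mod_cast hh'.symm
    subst hhh
    simp only [hQ, not_true_eq_false, false_or, hpd]
    unfold Rect
    rw [hdep]
    constructor
    · intro H
      have h1 : n ≤ d + r := by exact_mod_cast H r hr
      omega
    · rintro ⟨h1, h2⟩ r' hr'
      have : r' = r := by
        rw [hr] at hr'
        exact_mod_cast hr'.symm
      subst this
      have : n ≤ d + r' := by omega
      exact_mod_cast this
  · have hsub := subsingleton_fib A N M Q hQ
    simp only [hQ, not_false_eq_true, true_or, iff_true]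
    intro r _
    rw [Ega4A.DepthBasic.depth_of_subsingleton]
    change ((n : ℕ∞) : WithBot ℕ∞) ≤ ((⊤ + (r : ℕ∞) : ℕ∞) : WithBot ℕ∞)
    rw [top_add]
    exact WithBot.coe_le_coe.mpr le_top

theorem isOpen_rect [Module A M] [IsScalarTower A (MvPolynomial (Fin N) A) M]
    [Module.FinitePresentation (MvPolynomial (Fin N) A) M] [Module.Flat A M]
    (hK : KerFP A (MvPolynomial (Fin N) A)) (n : ℕ) :
    IsOpen {Q : PrimeSpectrum (MvPolynomial (Fin N) A) | Rect A N M n Q} := by
  simp only [rect_iff]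
  by_cases hn : n ≤ N
  · simp only [hn, true_and]
    exact (Module.isClosed_support.isOpen_compl).union (isOpen_pd A _ hK (N - n) M)
  · simp only [hn, false_and, or_false]
    exact Module.isClosed_support.isOpen_compl

end Poly

section Aff

/-- Codepth at most `k`. -/
def CodepthLE (k : ℕ) : LProp.{u} := fun R _ _ M _ _ _ =>
  Module.supportDim R M ≤ ((LocCoh.depth R M : ℕ∞) : WithBot ℕ∞) + k

/-- Rectified depth at least `k`. -/
def RectGE (k : ℕ) : LProp.{u} := fun R _ _ M _ _ r =>
  (k : WithBot ℕ∞) ≤ ((LocCoh.depth R M : ℕ∞) : WithBot ℕ∞) + r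

theorem inv_codepthLE (k : ℕ) : Inv (CodepthLE.{u} k) := by
  intro R R' _ _ _ _ σ hσ M M' _ _ _ _ e he n
  unfold CodepthLE
  rw [Ega4A.DepthBasic.depth_congr_of_surjective σ hσ M M' e he,
    Ega4A.DepthBasic.supportDim_congr_of_surjective σ hσ M M' e he]

theorem inv_rectGE (k : ℕ) : Inv (RectGE.{u} k) := by
  intro R R' _ _ _ _ σ hσ M M' _ _ _ _ e he n
  unfold RectGE
  rw [Ega4A.DepthBasic.depth_congr_of_surjective σ hσ M M' e he]

/-- Reduction of the affine statement to polynomial rings. -/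
theorem affOpen_of_poly {Q : LProp.{u}} (hQ : Inv Q)
    (H : ∀ (A : Type u) [CommRing A] (N : ℕ) (M : Type u) [AddCommGroup M]
      [Module (MvPolynomial (Fin N) A) M] [Module A M] [IsScalarTower A (MvPolynomial (Fin N) A) M]
      [Module.FinitePresentation (MvPolynomial (Fin N) A) M] [Module.Flat A M],
      IsOpen {q : PrimeSpectrum (MvPolynomial (Fin N) A) | ∀ n : ℕ, tr A q.asIdeal = n →
        Q (FibLocRing A (MvPolynomial (Fin N) A) q.asIdeal)
        (FibLocMod A (MvPolynomial (Fin N) A) q.asIdeal M) n}) :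
    AffOpen Q := by
  intro A B M _ _ _ _ _ _ _ _ _ _
  obtain ⟨N, φ, hφ, hker⟩ := FibAff.exists_poly (A := A) (B := B)
  let : Algebra (MvPolynomial (Fin N) A) B := φ.toRingHom.toAlgebra
  have : IsScalarTower A (MvPolynomial (Fin N) A) B :=
    IsScalarTower.of_algebraMap_eq' φ.comp_algebraMap.symm
  let : Module (MvPolynomial (Fin N) A) M := Module.compHom M (algebraMap (MvPolynomial (Fin N) A) B)
  have : IsScalarTower (MvPolynomial (Fin N) A) B M := IsScalarTower.of_algebraMap_smul fun _ _ ↦ rfl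
  have : IsScalarTower A (MvPolynomial (Fin N) A) M := by
    refine IsScalarTower.of_algebraMap_smul fun r x ↦ ?_
    rw [← algebraMap_smul B (algebraMap A (MvPolynomial (Fin N) A) r) x,
      ← IsScalarTower.algebraMap_apply, algebraMap_smul]
  have : Module.FinitePresentation (MvPolynomial (Fin N) A) B :=
    Module.finitePresentation_of_surjective (Algebra.linearMap (MvPolynomial (Fin N) A) B) hφ hker
  have : Module.FinitePresentation (MvPolynomial (Fin N) A) M := .trans (MvPolynomial (Fin N) A) M B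
  have h := (H A N M).preimage
    (PrimeSpectrum.continuous_comap (algebraMap (MvPolynomial (Fin N) A) B))
  convert h using 1
  ext q
  rw [Set.mem_ofPred_eq, Set.mem_preimage, Set.mem_ofPred_eq]
  obtain ⟨σ, e, hσ, he⟩ := exists_fib_equiv (A := A) hφ M q.asIdeal
  have h1 : tr A (PrimeSpectrum.comap (algebraMap (MvPolynomial (Fin N) A) B) q).asIdeal =
      tr A q.asIdeal := tr_comap hφ q.asIdeal
  rw [h1]
  exact forall_congr' fun n => imp_congr_right fun _ => (hQ σ hσ e he n).symm

theorem exists_tr (A : Type u) [CommRing A] (N : ℕ) (Q : PrimeSpectrum (MvPolynomial (Fin N) A)) :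
    ∃ n : ℕ, tr A Q.asIdeal = n := by
  obtain ⟨h, r, -, hr, -⟩ := dim_add_tr A N Q
  exact ⟨r, hr⟩

theorem affOpen_codepth (k : ℕ) : AffOpen (CodepthLE.{u} k) := by
  refine affOpen_of_poly (inv_codepthLE k) ?_
  intro A _ N M _ _ _ _ _ _
  convert isOpen_goodN A N M (FlatKer.kerFP A (MvPolynomial (Fin N) A)) k using 1
  ext q
  obtain ⟨n, hn⟩ := exists_tr A N q
  exact ⟨fun h => h n hn, fun h _ _ => h⟩

theorem affOpen_rect (k : ℕ) : AffOpen (RectGE.{u} k) := by
  refine affOpen_of_poly (inv_rectGE k) ?_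
  intro A _ N M _ _ _ _ _ _
  exact isOpen_rect A N M (FlatKer.kerFP A (MvPolynomial (Fin N) A)) k

end Aff

end K131.FibNum
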