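import Groth.Agent.Ega43.FibSch2
import Groth.Agent.CycB.RelDim2

/-!
# Openness of conditions on the stalks of the fibres of a module: reduction to the affine case

Let `Q R M n` be a property of a local ring `R`, an `R`-module `M` and a natural number `n`, invariant
under semilinear isomorphisms along surjections of rings. `isOpen_of_aff`: the set of the points `x` of
an open set `W`, over which `F` is flat, where the stalk of the restriction of `F` to the fibre has `Q`
(with `n` the transcendence degree of `κ(x)` over `κ(f x)`) is open, as soon as this holds for algebras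
and modules of finite presentation.
-/

set_option autoImplicit false
universe u v w

open CategoryTheory CategoryTheory.Limits AlgebraicGeometry TopologicalSpace
open IsLocalRing

namespace K131.FibOpenMod

open Groth.Agent Groth.Agent.Ega43.FibSch2 Groth.Agent.CycB.TrdegAlg Groth.Agent.CycB.RelDim

/-- A property of a local ring, a module over it and a natural number. -/
abbrev LProp : Type (u + 1) :=
  ∀ (R : Type u) [CommRing R] [IsLocalRing R] (M : Type u) [AddCommGroup M] [Module R M], ℕ → Prop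

/-- Invariance under semilinear isomorphisms along surjective ring maps. -/
def Inv (Q : LProp.{u}) : Prop :=
  ∀ {R R' : Type u} [CommRing R] [IsLocalRing R] [CommRing R'] [IsLocalRing R'] (σ : R →+* R')
    (_ : Function.Surjective σ) {M M' : Type u} [AddCommGroup M] [Module R M] [AddCommGroup M']
    [Module R' M'] (e : M ≃+ M') (_ : ∀ (r : R) (m : M), e (r • m) = σ r • e m) (n : ℕ),
    Q R M n ↔ Q R' M' n

section Algebra

variable {A B : Type u} [CommRing A] [CommRing B] [Algebra A B]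

/-- The transcendence degree of `κ(q)` over `κ(q ∩ A)`. -/
noncomputable def tr (A : Type u) {B : Type u} [CommRing A] [CommRing B] [Algebra A B] (q : Ideal B) :
    Cardinal.{u} :=
  trd (Ideal.quotientMap q (algebraMap A B) (le_refl (q.comap (algebraMap A B))))

/-- The pair `(FibLocRing, FibLocMod)` in terms of arbitrary models of the localizations. -/
theorem fibLoc_iff {Q : LProp.{u}} (hQ : Inv Q) (n : ℕ) (q : Ideal B) [q.IsPrime] (M : Type u)
    [AddCommGroup M] [Module B M]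
    {𝓐 𝓑 N : Type u} [CommRing 𝓐] [IsLocalRing 𝓐] [Algebra A 𝓐]
    [IsLocalization.AtPrime 𝓐 (q.comap (algebraMap A B))]
    [CommRing 𝓑] [IsLocalRing 𝓑] [Algebra B 𝓑] [IsLocalization.AtPrime 𝓑 q] [Algebra 𝓐 𝓑]
    (hcomm : (algebraMap 𝓐 𝓑).comp (algebraMap A 𝓐) = (algebraMap B 𝓑).comp (algebraMap A B))
    [AddCommGroup N] [Module B N] [Module 𝓑 N] [IsScalarTower B 𝓑 N]
    (l : M →ₗ[B] N) [IsLocalizedModule q.primeCompl l] :
    have := Ega4C.SkFlat.isLocalRing_fibLocRing (B := A) q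
    Q (EGA4.FibLocRing A B q) (EGA4.FibLocMod A B q M) n ↔
      Q 𝓑 (N ⧸ ((maximalIdeal 𝓐).map (algebraMap 𝓐 𝓑) • ⊤ : Submodule 𝓑 N)) n := by
  have := Ega4C.SkFlat.isLocalRing_fibLocRing (B := A) q
  have h1 : Q (Localization.AtPrime q) (EGA4.FibLocMod A B q M) n ↔
      Q (EGA4.FibLocRing A B q) (EGA4.FibLocMod A B q M) n :=
    hQ (Ideal.Quotient.mk _) Ideal.Quotient.mk_surjective (AddEquiv.refl _)
      (fun r m => rfl) n
  refine h1.symm.trans ?_
  let σ : Localization.AtPrime q ≃ₐ[B] 𝓑 := IsLocalization.algEquiv q.primeCompl _ _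
  let : Module (Localization.AtPrime q) N := Module.compHom N (σ : Localization.AtPrime q →+* 𝓑)
  have : IsScalarTower B (Localization.AtPrime q) N := IsScalarTower.of_algebraMap_smul (fun r m => by
    change σ (algebraMap B (Localization.AtPrime q) r) • m = r • m
    rw [σ.commutes, algebraMap_smul])
  let e₀ : LocalizedModule q.primeCompl M ≃ₗ[B] N := IsLocalizedModule.iso q.primeCompl l
  let e₁ : LocalizedModule q.primeCompl M ≃ₗ[Localization.AtPrime q] N :=
    e₀.extendScalarsOfIsLocalization q.primeCompl (Localization.AtPrime q)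
  obtain ⟨e', he'⟩ := exists_quot_semilinear σ.toRingEquiv e₁.toAddEquiv (fun r n => e₁.map_smul r n)
    ((q.comap (algebraMap A B)).map (algebraMap A (Localization.AtPrime q)))
    ((maximalIdeal 𝓐).map (algebraMap 𝓐 𝓑)) (by
      rw [← IsLocalization.AtPrime.map_eq_maximalIdeal (q.comap (algebraMap A B)) 𝓐,
        Ideal.map_map, Ideal.map_map, hcomm]
      congr 1
      ext a
      change σ (algebraMap A (Localization.AtPrime q) a) = algebraMap B 𝓑 (algebraMap A B a)
      rw [IsScalarTower.algebraMap_apply A B (Localization.AtPrime q), σ.commutes])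
  exact hQ (σ : Localization.AtPrime q →+* 𝓑) σ.surjective e' he' n

end Algebra

section Scheme

variable {X S : Scheme.{u}}

open Groth.Agent.Ega4dB.FiberDepth in
theorem stalk_fiber {Q : LProp.{u}} (hQ : Inv Q) (n : ℕ) (f : X ⟶ S) (F : X.Modules) (s : S)
    (z : f.fiber s) :
    Q ((f.fiber s).presheaf.stalk z)
      (((Scheme.Modules.pullback (f.fiberι s)).obj F).presheaf.stalk z) n ↔
    Q (X.presheaf.stalk (f.fiberι s z))
      (F.presheaf.stalk (f.fiberι s z) ⧸
        (mIdeal f (f.fiberι s z) • (⊤ : Submodule (X.presheaf.stalk (f.fiberι s z))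
          (F.presheaf.stalk (f.fiberι s z))))) n := by
  let := Groth.Agent.Fdesc.PullbackStalk.stalkAlg (f.fiberι s) z
  let := FlatMod.moduleStalkOver (f.fiberι s) ((Scheme.Modules.pullback (f.fiberι s)).obj F) z
  have := Groth.Agent.Fdesc.PullbackStalk.isScalarTower (f.fiberι s)
    ((Scheme.Modules.pullback (f.fiberι s)).obj F) z
  have hbc := Groth.Agent.Fdesc.PullbackStalk.isBaseChange_can (f.fiberι s) F z
  have hsurj : Function.Surjective
      (algebraMap (X.presheaf.stalk (f.fiberι s z)) ((f.fiber s).presheaf.stalk z)) :=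
    CycB.FiberKer.stalkMap_fiberι_surjective f s z
  obtain ⟨h1, h2⟩ := exists_equiv_of_isBaseChange hsurj hbc
  have h3 : RingHom.ker (algebraMap (X.presheaf.stalk (f.fiberι s z)) ((f.fiber s).presheaf.stalk z)) =
      mIdeal f (f.fiberι s z) := CycB.FiberKer.ker_stalkMap_fiberι f s z
  rw [h3] at h2
  let e := (Submodule.quotEquivOfEq _ _ h2.symm).trans
    (LinearMap.quotKerEquivOfSurjective _ h1)
  refine (hQ (algebraMap (X.presheaf.stalk (f.fiberι s z))
    ((f.fiber s).presheaf.stalk z)) hsurj e.toAddEquiv ?_ n).symm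
  intro r m
  change e (r • m) = _
  rw [e.map_smul]
  exact (algebraMap_smul ((f.fiber s).presheaf.stalk z) r (e m)).symm

open Groth.Agent.Ega4dB.FiberDepth in
theorem stalk_asFiber {Q : LProp.{u}} (hQ : Inv Q) (n : ℕ) (f : X ⟶ S) (F : X.Modules) (x : X) :
    Q ((f.fiber (f x)).presheaf.stalk (f.asFiber x))
      (((Scheme.Modules.pullback (f.fiberι (f x))).obj F).presheaf.stalk (f.asFiber x)) n ↔
    Q (X.presheaf.stalk x)
      (F.presheaf.stalk x ⧸ (mIdeal f x • (⊤ : Submodule (X.presheaf.stalk x)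
          (F.presheaf.stalk x)))) n := by
  have h := stalk_fiber hQ n f F (f x) (f.asFiber x)
  rw [f.fiberι_asFiber] at h
  exact h

open Groth.Agent.Fdesc.QCohStalk

variable (f : X ⟶ S) (F : X.Modules)

/-- The fibre stalk condition in terms of sections. -/
theorem iff_fibLoc {Q : LProp.{u}} (hQ : Inv Q) (n : ℕ) (hF : Coh.IsQCoh F) {V : S.Opens}
    (hV : IsAffineOpen V)
    {U : X.Opens} (hU : IsAffineOpen U) (h : U ≤ f ⁻¹ᵁ V) (x : X) (hx : x ∈ U)
    [i1 : Algebra Γ(S, V) Γ(X, U)] (hi1 : algebraMap Γ(S, V) Γ(X, U) = (f.appLE V U h).hom) :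
    have := Ega4C.SkFlat.isLocalRing_fibLocRing (B := Γ(S, V)) (hU.primeIdealOf ⟨x, hx⟩).asIdeal
    Q ((f.fiber (f x)).presheaf.stalk (f.asFiber x))
      (((Scheme.Modules.pullback (f.fiberι (f x))).obj F).presheaf.stalk (f.asFiber x)) n ↔
    Q (EGA4.FibLocRing Γ(S, V) Γ(X, U) (hU.primeIdealOf ⟨x, hx⟩).asIdeal)
      (EGA4.FibLocMod Γ(S, V) Γ(X, U) (hU.primeIdealOf ⟨x, hx⟩).asIdeal Γ(F, U)) n := by
  let i3 : Module Γ(X, U) (F.presheaf.stalk x) := stalkModule F x hx
  let i6 : Algebra Γ(S, V) (S.presheaf.stalk (f x)) :=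
    (S.presheaf.germ V (f x) (h hx)).hom.toAlgebra
  let i7 : Algebra Γ(X, U) (X.presheaf.stalk x) := (X.presheaf.germ U x hx).hom.toAlgebra
  let i8 : Algebra (S.presheaf.stalk (f x)) (X.presheaf.stalk x) := (f.stalkMap x).hom.toAlgebra
  have h2 : ∀ a : Γ(S, V), (f.stalkMap x) (S.presheaf.germ V (f x) (h hx) a) =
      X.presheaf.germ U x hx (algebraMap Γ(S, V) Γ(X, U) a) := fun a => by
    rw [hi1]
    exact congr($(Groth.Agent.Ega3B.FlatSec.germ_appLE f h x hx) a)
  have t3 : IsScalarTower Γ(X, U) (X.presheaf.stalk x) (F.presheaf.stalk x) :=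
    IsScalarTower.of_algebraMap_smul (fun r m => rfl)
  have hq : (hU.primeIdealOf ⟨x, hx⟩).asIdeal.comap (algebraMap Γ(S, V) Γ(X, U)) =
      (hV.primeIdealOf ⟨f x, h hx⟩).asIdeal := by
    rw [hi1]
    exact congr(($(IsAffineOpen.comap_primeIdealOf_appLE V hV U hU h hx)).asIdeal)
  have l1 : IsLocalization.AtPrime (S.presheaf.stalk (f x))
      ((hU.primeIdealOf ⟨x, hx⟩).asIdeal.comap (algebraMap Γ(S, V) Γ(X, U))) := by
    have := hV.isLocalization_stalk ⟨f x, h hx⟩
    simp only [hq]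
    exact this
  have l2 : IsLocalization.AtPrime (X.presheaf.stalk x) (hU.primeIdealOf ⟨x, hx⟩).asIdeal :=
    hU.isLocalization_stalk ⟨x, hx⟩
  have l3 := isLocalizedModule_germ F hU hF x hx
  refine (stalk_asFiber hQ n f F x).trans (fibLoc_iff hQ n (𝓐 := S.presheaf.stalk (f x))
    (𝓑 := X.presheaf.stalk x) (hU.primeIdealOf ⟨x, hx⟩).asIdeal Γ(F, U) ?_ (germₗ F x hx)).symm
  ext a
  exact h2 a

/-- The residual transcendence degree in terms of sections. -/
theorem rtd_eq_tr {V : S.Opens} (hV : IsAffineOpen V)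
    {U : X.Opens} (hU : IsAffineOpen U) (h : U ≤ f ⁻¹ᵁ V) (x : X) (hx : x ∈ U)
    [i1 : Algebra Γ(S, V) Γ(X, U)] (hi1 : algebraMap Γ(S, V) Γ(X, U) = (f.appLE V U h).hom) :
    rtd f x = tr Γ(S, V) (hU.primeIdealOf ⟨x, hx⟩).asIdeal := by
  have hq : (hU.primeIdealOf ⟨x, hx⟩).asIdeal.comap (algebraMap Γ(S, V) Γ(X, U)) =
      (hV.primeIdealOf ⟨f x, h hx⟩).asIdeal := by
    rw [hi1]
    exact congr(($(IsAffineOpen.comap_primeIdealOf_appLE V hV U hU h hx)).asIdeal)
  have h1 := rtd_eq_trd_quotientMap f hV hU h x hx (h hx) _ hq (by rw [hi1])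
  rw [h1]
  have key : ∀ (g : Γ(S, V) →+* Γ(X, U)) (_ : algebraMap Γ(S, V) Γ(X, U) = g)
      (h' : (hU.primeIdealOf ⟨x, hx⟩).asIdeal.comap (algebraMap Γ(S, V) Γ(X, U)) ≤
        (hU.primeIdealOf ⟨x, hx⟩).asIdeal.comap g),
      trd (Ideal.quotientMap (hU.primeIdealOf ⟨x, hx⟩).asIdeal g h') =
        tr Γ(S, V) (hU.primeIdealOf ⟨x, hx⟩).asIdeal := by
    intro g hg h'
    subst hg
    rfl
  exact key _ hi1 _

/-- Flatness of sections over an affine open all of whose points are flat points. -/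
theorem flat_sections (hF : Coh.IsQCoh F) {V : S.Opens}
    (hV : IsAffineOpen V) {U : X.Opens} (hU : IsAffineOpen U) (h : U ≤ f ⁻¹ᵁ V)
    (hfl : ∀ x ∈ U, FlatMod.IsFlatOverAt f F x)
    [i1 : Algebra Γ(S, V) Γ(X, U)] (hi1 : algebraMap Γ(S, V) Γ(X, U) = (f.appLE V U h).hom)
    [i2 : Module Γ(S, V) Γ(F, U)] [t1 : IsScalarTower Γ(S, V) Γ(X, U) Γ(F, U)] :
    Module.Flat Γ(S, V) Γ(F, U) := by
  refine Module.flat_of_isLocalized_maximal (S := Γ(X, U)) Γ(F, U)
    (fun P _ => LocalizedModule P.primeCompl Γ(F, U))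
    (fun P _ => LocalizedModule.mkLinearMap P.primeCompl Γ(F, U)) ?_
  intro P hP
  obtain ⟨x, hx, hxP⟩ : ∃ (x : X) (hx : x ∈ U), (hU.primeIdealOf ⟨x, hx⟩).asIdeal = P := by
    obtain ⟨y, hy⟩ := (Scheme.homeoOfIso hU.isoSpec).surjective (⟨P, hP.isPrime⟩ : Spec Γ(X, U))
    exact ⟨y.1, y.2, congrArg PrimeSpectrum.asIdeal hy⟩
  subst hxP
  let i3 : Module Γ(X, U) (F.presheaf.stalk x) := stalkModule F x hx
  let i4 : Module Γ(S, V) (F.presheaf.stalk x) :=
    Module.compHom (F.presheaf.stalk x) (algebraMap Γ(S, V) Γ(X, U))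
  let i5 : Module (S.presheaf.stalk (f x)) (F.presheaf.stalk x) := FlatMod.moduleStalkOver f F x
  let i6 : Algebra Γ(S, V) (S.presheaf.stalk (f x)) :=
    (S.presheaf.germ V (f x) (h hx)).hom.toAlgebra
  have h2 : ∀ a : Γ(S, V), (f.stalkMap x) (S.presheaf.germ V (f x) (h hx) a) =
      X.presheaf.germ U x hx (algebraMap Γ(S, V) Γ(X, U) a) := fun a => by
    rw [hi1]
    exact congr($(Groth.Agent.Ega3B.FlatSec.germ_appLE f h x hx) a)
  have t2 : IsScalarTower Γ(S, V) Γ(X, U) (F.presheaf.stalk x) :=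
    ⟨fun a b m => by
      rw [Algebra.smul_def]
      exact mul_smul (algebraMap Γ(S, V) Γ(X, U) a) b m⟩
  have t8 : IsScalarTower Γ(S, V) (S.presheaf.stalk (f x)) (F.presheaf.stalk x) :=
    IsScalarTower.of_algebraMap_smul (fun r m => by
      change (f.stalkMap x) (S.presheaf.germ V (f x) (h hx) r) • m =
        X.presheaf.germ U x hx (algebraMap Γ(S, V) Γ(X, U) r) • m
      rw [h2])
  have l1 := hV.isLocalization_stalk ⟨f x, h hx⟩
  have l3 := isLocalizedModule_germ F hU hF x hx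
  have h3 : Module.Flat Γ(S, V) (F.presheaf.stalk x) :=
    (Module.flat_iff_of_isLocalization (S.presheaf.stalk (f x))
      (hV.primeIdealOf ⟨f x, h hx⟩).asIdeal.primeCompl _).mp (hfl x hx)
  exact Module.Flat.of_linearEquiv ((IsLocalizedModule.linearEquiv
    (hU.primeIdealOf ⟨x, hx⟩).asIdeal.primeCompl (LocalizedModule.mkLinearMap _ _)
      (germₗ F x hx)).restrictScalars Γ(S, V))

/-- The affine statement. -/
def AffOpen (Q : LProp.{u}) : Prop :=
  ∀ (A B M : Type u) [CommRing A] [CommRing B] [Algebra A B] [Algebra.FinitePresentation A B]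
    [AddCommGroup M] [Module A M] [Module B M] [IsScalarTower A B M] [Module.FinitePresentation B M]
    [Module.Flat A M], IsOpen {q : PrimeSpectrum B | ∀ n : ℕ, tr A q.asIdeal = n →
      @Q (EGA4.FibLocRing A B q.asIdeal) _ (Ega4C.SkFlat.isLocalRing_fibLocRing (B := A) q.asIdeal)
        (EGA4.FibLocMod A B q.asIdeal M) _ _ n}

/-- Openness over an open set over which the module is flat, with the residual transcendence
degree. -/
theorem isOpen_of_aff {Q : LProp.{u}} (hQ : Inv Q) (haff : AffOpen Q)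
    [LocallyOfFinitePresentation f] (hF : CohB1.IsFP F)
    (W : X.Opens) (hflat : ∀ x ∈ W, FlatMod.IsFlatOverAt f F x) :
    IsOpen {x : X | x ∈ W ∧ ∀ n : ℕ, rtd f x = n →
      Q ((f.fiber (f.base x)).presheaf.stalk (f.asFiber x))
        (((Scheme.Modules.pullback (f.fiberι (f.base x))).obj F).presheaf.stalk (f.asFiber x)) n} := by
  have hqc := PerfC.FPSections.isQCoh_of_isFP hF
  rw [isOpen_iff_forall_mem_open]
  intro y hy
  obtain ⟨V, hV, hyV, -⟩ := exists_isAffineOpen_mem_and_subset (x := f y) (U := ⊤) trivial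
  obtain ⟨U, hU, hyU, h'⟩ := exists_isAffineOpen_mem_and_subset (x := y) (U := f ⁻¹ᵁ V ⊓ W)
    ⟨hyV, hy.1⟩
  have h : U ≤ f ⁻¹ᵁ V := fun z hz => (h' hz).1
  let i1 : Algebra Γ(S, V) Γ(X, U) := (f.appLE V U h).hom.toAlgebra
  have hi1 : algebraMap Γ(S, V) Γ(X, U) = (f.appLE V U h).hom := rfl
  let i2 : Module Γ(S, V) Γ(F, U) := Module.compHom Γ(F, U) (f.appLE V U h).hom
  have t1 : IsScalarTower Γ(S, V) Γ(X, U) Γ(F, U) := ⟨fun a b m => mul_smul (f.appLE V U h a) b m⟩
  have h1 : Algebra.FinitePresentation Γ(S, V) Γ(X, U) := f.finitePresentation_appLE hV hU h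
  have h2 : Module.FinitePresentation Γ(X, U) Γ(F, U) :=
    Desc.FPSections.finitePresentation_sections hU hqc hF
  have h3 : Module.Flat Γ(S, V) Γ(F, U) :=
    flat_sections f F hqc hV hU h (fun x hx => hflat x (h' hx).2) hi1
  have ho := haff Γ(S, V) Γ(X, U) Γ(F, U)
  have hcont : Continuous hU.primeIdealOf := hU.isoSpec.hom.continuous
  refine ⟨Subtype.val '' (hU.primeIdealOf ⁻¹' _), ?_,
    U.isOpenEmbedding'.isOpenMap _ (ho.preimage hcont), ⟨⟨y, hyU⟩, ?_, rfl⟩⟩
  · rintro _ ⟨⟨x, hx⟩, hxq, rfl⟩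
    refine ⟨(h' hx).2, fun n hn => ?_⟩
    refine (iff_fibLoc f F hQ n hqc hV hU h x hx hi1).mpr (hxq n ?_)
    rw [← rtd_eq_tr f hV hU h x hx hi1]
    exact hn
  · intro n hn
    refine (iff_fibLoc f F hQ n hqc hV hU h y hyU hi1).mp (hy.2 n ?_)
    rw [rtd_eq_tr f hV hU h y hyU hi1]
    exact hn

end Scheme

end K131.FibOpenMod
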