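import Mathlib.RingTheory.Filtration
import Mathlib.RingTheory.QuasiFinite.Basic
import Mathlib.RingTheory.Localization.AtPrime.Basic
import Mathlib.RingTheory.LocalProperties.Basic
import Mathlib.RingTheory.LocalRing.RingHom.Basic
import Mathlib.RingTheory.Ideal.GoingUp

/-!
# Finite injective extensions of a Noetherian local ring

For `A` Noetherian local and `B` a finite `A`-algebra with `A → B` injective, the topology of `A` is induced by the
maximal ideals of the localizations of `B` at its maximal ideals.
-/

set_option autoImplicit false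
universe u
open IsLocalRing

namespace K131.FinTop

section

variable (A B : Type u) [CommRing A] [IsLocalRing A] [CommRing B] [Algebra A B] [Module.Finite A B]

theorem comap_maximal (m : MaximalSpectrum B) : m.asIdeal.comap (algebraMap A B) = maximalIdeal A := by
  have := m.isMaximal
  have h1 : (m.asIdeal.comap (algebraMap A B)).IsMaximal :=
    Ideal.isMaximal_comap_of_isIntegral_of_isMaximal _
  exact IsLocalRing.eq_maximalIdeal h1

include A in
theorem finite_maximalSpectrum : Finite (MaximalSpectrum B) := by
  have h := Algebra.QuasiFinite.finite_primesOver (S := B) (IsLocalRing.maximalIdeal A)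
  have : Finite ((IsLocalRing.maximalIdeal A).primesOver B) := h
  have hover : ∀ m : MaximalSpectrum B, m.asIdeal.LiesOver (IsLocalRing.maximalIdeal A) := fun m =>
    ⟨(comap_maximal A B m).symm⟩
  let f : MaximalSpectrum B → (IsLocalRing.maximalIdeal A).primesOver B :=
    fun m => ⟨m.asIdeal, m.isMaximal.isPrime, hover m⟩
  refine Finite.of_injective f fun m m' hm => MaximalSpectrum.ext ?_
  exact congrArg (fun x => x.1) hm

/-- Artin–Rees for the subring `A ⊆ B` -/
theorem exists_comap_pow_le [IsNoetherianRing A] (hinj : Function.Injective (algebraMap A B)) (N : ℕ) :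
    ∃ r : ℕ, ((maximalIdeal A ^ r).map (algebraMap A B)).comap (algebraMap A B) ≤ maximalIdeal A ^ N := by
  obtain ⟨k, hk⟩ := Ideal.exists_pow_inf_eq_pow_smul (maximalIdeal A) (LinearMap.range (Algebra.linearMap A B))
  refine ⟨k + N, fun a ha => ?_⟩
  have h1 := hk (k + N) (Nat.le_add_right k N)
  rw [Nat.add_sub_cancel_left] at h1
  have h2 : algebraMap A B a ∈ maximalIdeal A ^ (k + N) • (⊤ : Submodule A B) ⊓
      LinearMap.range (Algebra.linearMap A B) := by
    refine ⟨?_, ⟨a, rfl⟩⟩
    rw [Ideal.smul_top_eq_map]
    exact ha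
  rw [h1] at h2
  have h3 : algebraMap A B a ∈ maximalIdeal A ^ N • LinearMap.range (Algebra.linearMap A B) :=
    Submodule.smul_mono le_rfl inf_le_right h2
  rw [LinearMap.range_eq_map, ← Submodule.map_smul''] at h3
  obtain ⟨b, hb, hab⟩ := h3
  rw [← hinj hab]
  simpa using hb

/-- in the localization of `B` at a maximal ideal a power of the maximal ideal is contained in the extension of
`(maximalIdeal A) ^ r` -/
theorem exists_pow_le [IsNoetherianRing A] (m : MaximalSpectrum B) (r : ℕ) :
    ∃ e : ℕ, (letI := m.isMaximal.isPrime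
      maximalIdeal (Localization.AtPrime m.asIdeal) ^ e ≤
        ((maximalIdeal A ^ r).map (algebraMap A B)).map (algebraMap B (Localization.AtPrime m.asIdeal))) := by
  have := m.isMaximal.isPrime
  let L := Localization.AtPrime m.asIdeal
  have : IsNoetherianRing B := IsNoetherianRing.of_finite A B
  let I : Ideal L := ((maximalIdeal A).map (algebraMap A B)).map (algebraMap B L)
  have hrad : maximalIdeal L ≤ I.radical := by
    rw [Ideal.radical_eq_sInf]
    refine le_sInf ?_
    rintro Q ⟨hIQ, hQ⟩
    let P := Q.comap (algebraMap B L)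
    have hP : P.IsPrime := hQ.comap _
    have h1 : maximalIdeal A ≤ P.comap (algebraMap A B) := fun a ha =>
      hIQ (Ideal.mem_map_of_mem _ (Ideal.mem_map_of_mem _ ha))
    have h2 : (P.comap (algebraMap A B)).IsMaximal := by
      rw [← (IsLocalRing.maximalIdeal.isMaximal A).eq_of_le (Ideal.IsPrime.ne_top (hP.comap _)) h1]
      exact IsLocalRing.maximalIdeal.isMaximal A
    have h3 : P.IsMaximal := Ideal.isMaximal_of_isIntegral_of_isMaximal_comap P h2
    have h4 : P ≤ m.asIdeal := by
      rw [← IsLocalization.AtPrime.under_maximalIdeal L m.asIdeal]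
      exact Ideal.comap_mono (IsLocalRing.le_maximalIdeal hQ.ne_top)
    have h5 : P = m.asIdeal := h3.eq_of_le m.isMaximal.ne_top h4
    rw [← Localization.AtPrime.map_eq_maximalIdeal]
    exact Ideal.map_le_iff_le_comap.mpr h5.ge
  obtain ⟨e, he⟩ := Ideal.exists_pow_le_of_le_radical_of_fg hrad (IsNoetherian.noetherian _)
  refine ⟨e * r, ?_⟩
  rw [pow_mul, Ideal.map_pow, Ideal.map_pow]
  exact Ideal.pow_right_mono he r

theorem exists_finset [IsNoetherianRing A] (hinj : Function.Injective (algebraMap A B)) (N : ℕ) :
    ∃ s : Finset (MaximalSpectrum B × ℕ), ∀ a : A,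
      (∀ p ∈ s, letI := p.1.isMaximal.isPrime
        algebraMap B (Localization.AtPrime p.1.asIdeal) (algebraMap A B a) ∈
          maximalIdeal (Localization.AtPrime p.1.asIdeal) ^ p.2) → a ∈ maximalIdeal A ^ N := by
  classical
  obtain ⟨r, hr⟩ := exists_comap_pow_le A B hinj N
  have := finite_maximalSpectrum A B
  have := Fintype.ofFinite (MaximalSpectrum B)
  choose e he using fun m => exists_pow_le A B m r
  refine ⟨Finset.univ.image fun m => (m, e m), fun a ha => hr ?_⟩
  change algebraMap A B a ∈ (maximalIdeal A ^ r).map (algebraMap A B)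
  refine Ideal.mem_of_localization_maximal fun P hP => ?_
  exact he ⟨P, hP⟩ (ha (⟨P, hP⟩, e ⟨P, hP⟩) (Finset.mem_image_of_mem _ (Finset.mem_univ _)))

end

end K131.FinTop
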