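import Groth.Agent.EGA43.K123.SepGeom2
import Groth.Agent.EGA43.K120.FlatDict

/-!
# Separating families with flat targets: reduction of base change to algebras of finite type
-/

set_option autoImplicit false
set_option linter.style.haveILetI false
universe u
open CategoryTheory CategoryTheory.Limits AlgebraicGeometry Opposite TopologicalSpace
open scoped TensorProduct

namespace K131.SepFT

open K130.SepBasic K123.SepAlg K123.SepGeom Groth.Agent

/-- `A → K₀` for a subalgebra `K₀` of `Γ(Spec A')` over `Γ(Spec A)` -/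
theorem secInj_of_ft {X : Scheme.{u}} (A A' : CommRingCat.{u}) (φ : A ⟶ A') (p : X ⟶ Spec A) {F : X.Modules}
    (hF : Coh.IsQCoh F) {ι : Type u} {G : ι → X.Modules} (hG : ∀ i, Coh.IsQCoh (G i))
    (hGf : ∀ i, FlatMod.IsFlatOver p (G i)) (u : ∀ i, F ⟶ G i)
    (hfg : ∀ (B : CommRingCat.{u}) (a : A ⟶ B) (b : B ⟶ A'), a ≫ b = φ → Function.Injective b.hom →
      a.hom.FiniteType → ∀ V, SecInj (fun i => (Scheme.Modules.pullback (pullback.fst p (Spec.map a))).map (u i)) V)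
    (W : (pullback p (Spec.map φ)).Opens) :
    SecInj (fun i => (Scheme.Modules.pullback (pullback.fst p (Spec.map φ))).map (u i)) W := by
  have H := IsPullback.of_hasPullback p (Spec.map φ)
  refine secInj_of_basis _ {V | ∃ (UX : X.Opens) (_ : IsAffineOpen UX)
    (r : Γ(pullback p (Spec.map φ), pullback.fst p (Spec.map φ) ⁻¹ᵁ UX ⊓ pullback.snd p (Spec.map φ) ⁻¹ᵁ ⊤)),
      V = (pullback p (Spec.map φ)).basicOpen r} ?_ ?_ W
  · intro V y hy
    obtain ⟨UX, hUX, hxU, -⟩ := exists_isAffineOpen_mem_and_subset (X := X) (x := pullback.fst p (Spec.map φ) y)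
      (U := ⊤) trivial
    have hbox := isAffineOpen_box H (US := ⊤) (UT := ⊤) (UX := UX) le_top le_top rfl (isAffineOpen_top _)
      (isAffineOpen_top _) hUX
    obtain ⟨r, hr, hyr⟩ := hbox.exists_basicOpen_le ⟨y, hy⟩ ⟨hxU, trivial⟩
    exact ⟨_, ⟨UX, hUX, r, rfl⟩, hyr, hr⟩
  rintro _ ⟨UX, hUX, r, rfl⟩
  revert r
  have hS : (⊤ : (Spec A').Opens) ≤ Spec.map φ ⁻¹ᵁ ⊤ := le_top
  have hX : UX ≤ p ⁻¹ᵁ ⊤ := le_top
  rw [← sep_box_iff H hS hX rfl (isAffineOpen_top _) (isAffineOpen_top _) hUX hF hG u]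
  let j1 : Algebra Γ(Spec A, ⊤) Γ(X, UX) := (p.appLE ⊤ UX hX).hom.toAlgebra
  let j2 : Algebra Γ(Spec A, ⊤) Γ(Spec A', ⊤) := ((Spec.map φ).appLE ⊤ ⊤ hS).hom.toAlgebra
  let j3 : ∀ i, Module Γ(Spec A, ⊤) Γ(G i, UX) := fun i => K120.FlatDict.secModule p (G i) hX
  have t1 : ∀ i, IsScalarTower Γ(Spec A, ⊤) Γ(X, UX) Γ(G i, UX) := fun i => .of_algebraMap_smul fun _ _ => rfl
  have t2 : ∀ i, Module.Flat Γ(Spec A, ⊤) Γ(G i, UX) := fun i =>
    (K120.FlatDict.flat_sections_iff p (G i) (hG i) hUX (isAffineOpen_top _) hX).mp fun x _ => hGf i x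
  refine sep_of_fg _ fun K₀ hK₀ => ?_
  let B : CommRingCat.{u} := CommRingCat.of K₀
  let a₀ : Γ(Spec A, ⊤) ⟶ B := CommRingCat.ofHom (algebraMap Γ(Spec A, ⊤) K₀)
  let a : A ⟶ B := (Scheme.ΓSpecIso A).inv ≫ a₀
  let b₀ : B ⟶ Γ(Spec A', ⊤) := CommRingCat.ofHom K₀.val.toRingHom
  let b : B ⟶ A' := b₀ ≫ (Scheme.ΓSpecIso A').hom
  have hab₀ : a₀ ≫ b₀ = (Spec.map φ).appTop := by
    have h1 : (Spec.map φ).appLE ⊤ ⊤ hS = (Spec.map φ).appTop := Scheme.Hom.appLE_eq_app _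
    rw [← h1]
    rfl
  have hab : a ≫ b = φ := by
    change ((Scheme.ΓSpecIso A).inv ≫ a₀) ≫ b₀ ≫ (Scheme.ΓSpecIso A').hom = φ
    rw [Category.assoc, reassoc_of% hab₀, ← Scheme.ΓSpecIso_inv_naturality_assoc, Iso.inv_hom_id, Category.comp_id]
  have hb : Function.Injective b.hom := by
    have h1 : Function.Injective (Scheme.ΓSpecIso A').hom.hom :=
      ((ConcreteCategory.isIso_iff_bijective (Scheme.ΓSpecIso A').hom).mp inferInstance).1
    exact h1.comp Subtype.val_injective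
  have ha : a.hom.FiniteType := by
    have h1 : Algebra.FiniteType Γ(Spec A, ⊤) K₀ := (Subalgebra.fg_iff_finiteType K₀).mp hK₀
    have h2 : a₀.hom.FiniteType := h1
    exact h2.comp (RingHom.FiniteType.of_surjective _
      ((ConcreteCategory.isIso_iff_bijective (Scheme.ΓSpecIso A).inv).mp inferInstance).2)
  have h3 := hfg B a b hab hb ha
  have H' := IsPullback.of_hasPullback p (Spec.map a)
  have hS' : (⊤ : (Spec B).Opens) ≤ Spec.map a ⁻¹ᵁ ⊤ := le_top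
  have h4 := (sep_box_iff H' hS' hX rfl (isAffineOpen_top _) (isAffineOpen_top _) hUX hF hG u).mpr fun r => h3 _
  let j4 : Algebra Γ(Spec A, ⊤) Γ(Spec B, ⊤) := ((Spec.map a).appLE ⊤ ⊤ hS').hom.toAlgebra
  let e : K₀ ≃ₐ[Γ(Spec A, ⊤)] Γ(Spec B, ⊤) :=
    AlgEquiv.ofRingEquiv (f := (Scheme.ΓSpecIso B).symm.commRingCatIsoToRingEquiv) fun x => by
      have h5 : a₀ ≫ (Scheme.ΓSpecIso B).inv = (Spec.map a).appLE ⊤ ⊤ hS' := by
        have h6 : (Spec.map a).appLE ⊤ ⊤ hS' = (Spec.map a).appTop := Scheme.Hom.appLE_eq_app _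
        rw [h6, ← cancel_epi (Scheme.ΓSpecIso A).inv, ← Scheme.ΓSpecIso_inv_naturality, Category.assoc]
      exact congr($(h5).hom x)
  exact Sep.of_algEquiv (Algebra.TensorProduct.congr AlgEquiv.refl e) h4

end K131.SepFT
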